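import Mathlib

/-!
# A four-group acting on an abelian group over the natural module of `GL(3, 2)`

`φ₁, φ₂` are the two coordinates of the quotient `M / P`, `O` has index two in `P`. The two
commuting involutions act as transvections with a common centre and `r` permutes them cyclically
together with their product.
-/

set_option autoImplicit false
set_option linter.all false

namespace Cfsg.Agent.RadicalLThree

lemma zmod_two_cases (b : ZMod 2) : b = 0 ∨ b = 1 := by revert b; decide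

lemma zmod_two_eq_of_iff {a b : ZMod 2} (h : a = 0 ↔ b = 0) : a = b := by
  revert a b; decide

/-- The three operators. -/
structure Ops (M : Type*) [AddCommGroup M] where
  u1 : M →+ M
  u2 : M →+ M
  r : M →+ M
  φ1 : M →+ ZMod 2
  φ2 : M →+ ZMod 2
  O : AddSubgroup M
  O_le : ∀ o ∈ O, φ1 o = 0 ∧ φ2 o = 0
  idx : ∀ x y, φ1 x = 0 → φ2 x = 0 → φ1 y = 0 → φ2 y = 0 → x ∉ O → y ∉ O → x + y ∈ O
  inv1 : ∀ x, u1 (u1 x) = x
  inv2 : ∀ x, u2 (u2 x) = x
  comm : ∀ x, u1 (u2 x) = u2 (u1 x)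
  phi11 : ∀ x, φ1 (u1 x) = φ1 x
  phi12 : ∀ x, φ1 (u2 x) = φ1 x
  phi21 : ∀ x, φ2 (u1 x) = φ2 x
  phi22 : ∀ x, φ2 (u2 x) = φ2 x
  mem1 : ∀ x, u1 x - x ∈ O ↔ φ1 x = 0
  mem2 : ∀ x, u2 x - x ∈ O ↔ φ2 x = 0
  two : ∀ x, x + x ∈ O
  rel1 : ∀ x, r (u1 x) = u2 (r x)
  rel2 : ∀ x, r (u2 x) = u1 (u2 (r x))
  phir1 : ∀ x, φ1 (r x) = φ1 x + φ2 x
  phir2 : ∀ x, φ2 (r x) = φ1 x
  rO : ∀ o ∈ O, r o ∈ O
  r3 : ∀ x, r (r (r x)) = x
  surj : ∀ a b : ZMod 2, ∃ x, φ1 x = a ∧ φ2 x = b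

namespace Ops

variable {M : Type*} [AddCommGroup M] (S : Ops M)

lemma d1_mem (x : M) : S.φ1 (S.u1 x - x) = 0 ∧ S.φ2 (S.u1 x - x) = 0 := by
  simp [S.phi11, S.phi21]

lemma d2_mem (x : M) : S.φ1 (S.u2 x - x) = 0 ∧ S.φ2 (S.u2 x - x) = 0 := by
  simp [S.phi12, S.phi22]

/-- Congruent elements of the kernel. -/
lemma iff_of_eq {a b o : M} (h : a = b + o) (ho : o ∈ S.O) : a ∈ S.O ↔ b ∈ S.O := by
  subst h
  exact ⟨fun hh => by simpa using S.O.sub_mem hh ho, fun hh => S.O.add_mem hh ho⟩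

lemma rev (x : M) : S.r (S.u1 (S.u2 x)) = S.u1 (S.r x) := by
  rw [S.rel1, S.rel2, ← S.comm (S.u2 (S.r x)), S.inv2]

/-- The equations satisfied by lifts of the three involutions. -/
structure Lifts (m k x : M) : Prop where
  f1 : S.u1 m = m
  f2 : S.u2 m = k + S.u1 k + m
  f3 : S.u1 (S.r m) = -k - S.u2 k + S.r m
  f4 : S.r x = S.u1 x
  f5 : S.u1 k + m + S.r m = x + S.u1 (S.u2 x) - S.r (S.r m)

lemma core {m k x : M} (L : S.Lifts m k x) :
    (S.φ1 m = 0 ∧ S.φ2 m = 0) ∧ (S.φ1 k = 0 ∧ S.φ2 k = 0) ∧ (S.φ1 x = 0 ∧ S.φ2 x = 0) := by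
  have hm1 : S.φ1 m = 0 := (S.mem1 m).1 (by rw [L.f1, sub_self]; exact S.O.zero_mem)
  have h1 : S.φ1 k = S.φ2 m := zmod_two_eq_of_iff (by
    rw [← S.mem1, ← S.mem2]
    exact (S.iff_of_eq (by rw [L.f2]; abel) (S.two k)).symm)
  have h2 : S.φ2 k = S.φ1 (S.r m) := zmod_two_eq_of_iff (by
    rw [← S.mem1, ← S.mem2, ← neg_mem_iff (x := S.u1 (S.r m) - S.r m)]
    exact (S.iff_of_eq (by rw [L.f3]; abel) (S.two k)).symm)
  have h5 := congrArg S.φ1 L.f5
  simp only [map_add, map_sub, S.phi11, S.phi12, S.phir1, S.phir2, h1, hm1, zero_add, add_zero,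
    CharTwo.add_self_eq_zero, zero_sub, neg_eq_zero] at h5
  have hb : S.φ2 m = 0 := by
    rcases zmod_two_cases (S.φ2 m) with e | e
    · exact e
    · rw [e] at h5; exact absurd h5 (by decide)
  have hrm : S.φ1 (S.r m) = 0 := by rw [S.phir1, hm1, hb, add_zero]
  have e1 := congrArg S.φ1 L.f4
  have e2 := congrArg S.φ2 L.f4
  rw [S.phir1, S.phi11] at e1
  rw [S.phir2, S.phi21] at e2
  have hx2 : S.φ2 x = 0 := by simpa using e1
  exact ⟨⟨hm1, hb⟩, ⟨by rw [h1, hb], by rw [h2, hrm]⟩, e2.trans hx2, hx2⟩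

end Ops

/-- The situation in which squaring induces an embedding of `M / O` into `O`. -/
structure Sys (M : Type*) [AddCommGroup M] extends Ops M where
  two0 : ∀ o ∈ O, o + o = 0
  inj : ∀ x, x + x = 0 → x ∈ O
  hr : ∀ o ∈ O, ∃ z, r o - o = z + z
  h1 : ∀ o ∈ O, ∃ z, u1 o - o = z + z
  h2 : ∀ o ∈ O, ∃ z, u2 o - o = z + z
  small : ∀ o ∈ O, ∀ o' ∈ O, (¬∃ z, o = z + z) → (¬∃ z, o' = z + z) → ∃ z, o + o' = z + z

namespace Sys

variable {M : Type*} [AddCommGroup M] (S : Sys M)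

/-- Fixed elements of the kernel. -/
def C : AddSubgroup M where
  carrier := {x | x ∈ S.O ∧ S.u1 x = x ∧ S.u2 x = x}
  zero_mem' := ⟨S.O.zero_mem, map_zero _, map_zero _⟩
  add_mem' := fun {a b} ha hb => ⟨S.O.add_mem ha.1 hb.1, by rw [map_add, ha.2.1, hb.2.1],
    by rw [map_add, ha.2.2, hb.2.2]⟩
  neg_mem' := fun {a} ha => ⟨S.O.neg_mem ha.1, by rw [map_neg, ha.2.1], by rw [map_neg, ha.2.2]⟩

lemma neg_eq {o : M} (ho : o ∈ S.O) : -o = o := neg_eq_of_add_eq_zero_left (S.two0 o ho)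

/-- A double which is fixed comes from the kernel of both coordinates. -/
lemma of_double_mem_C {z : M} (h : z + z ∈ S.C) : S.φ1 z = 0 ∧ S.φ2 z = 0 := by
  have a1 : S.u1 z - z ∈ S.O := S.inj _ (by
    have := h.2.1; rw [map_add] at this
    rw [show S.u1 z - z + (S.u1 z - z) = S.u1 z + S.u1 z - (z + z) by abel, this, sub_self])
  have a2 : S.u2 z - z ∈ S.O := S.inj _ (by
    have := h.2.2; rw [map_add] at this
    rw [show S.u2 z - z + (S.u2 z - z) = S.u2 z + S.u2 z - (z + z) by abel, this, sub_self])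
  exact ⟨(S.mem1 z).1 a1, (S.mem2 z).1 a2⟩

lemma double_mem_C {z : M} (h1 : S.φ1 z = 0) (h2 : S.φ2 z = 0) : z + z ∈ S.C := by
  refine ⟨S.two z, ?_, ?_⟩ <;> rw [map_add, ← sub_eq_zero]
  · rw [show S.u1 z + S.u1 z - (z + z) = S.u1 z - z + (S.u1 z - z) by abel]
    exact S.two0 _ ((S.mem1 z).2 h1)
  · rw [show S.u2 z + S.u2 z - (z + z) = S.u2 z - z + (S.u2 z - z) by abel]
    exact S.two0 _ ((S.mem2 z).2 h2)

/-- The double of an element outside `O` of the kernel of both coordinates. -/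
lemma double_unique {z z' : M} (hz : S.φ1 z = 0 ∧ S.φ2 z = 0) (hz' : S.φ1 z' = 0 ∧ S.φ2 z' = 0)
    (hn : z ∉ S.O) (hn' : z' ∉ S.O) : z + z = z' + z' := by
  have := S.two0 _ (S.idx z z' hz.1 hz.2 hz'.1 hz'.2 hn hn')
  have h' : z + z = -(z' + z') := eq_neg_of_add_eq_zero_left (by rw [← this]; abel)
  rw [h', S.neg_eq (S.two z')]

/-- `r` fixes the fixed doubles. -/
lemma r_fix {d : M} (hd : d ∈ S.C) (hz : ∃ z, d = z + z) : S.r d = d := by
  obtain ⟨z, rfl⟩ := hz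
  obtain ⟨a, b⟩ := S.of_double_mem_C hd
  by_cases hO : z ∈ S.O
  · rw [S.two0 z hO, map_zero]
  · have hr : S.r z ∉ S.O := fun h => by
      have h3 := S.rO _ (S.rO _ h)
      rw [S.r3] at h3
      exact hO h3
    rw [map_add]
    exact S.double_unique ⟨by rw [S.phir1, a, b, add_zero], by rw [S.phir2, a]⟩ ⟨a, b⟩ hr hO

lemma r_C {x : M} (h : x ∈ S.C) : S.r x ∈ S.C := by
  refine ⟨S.rO x h.1, ?_, ?_⟩
  · rw [← S.rev, h.2.2, h.2.1]
  · rw [← S.rel1, h.2.1]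

lemma r_C_iff {x : M} : S.r x ∈ S.C ↔ x ∈ S.C :=
  ⟨fun h => by simpa [S.r3] using S.r_C (S.r_C h), S.r_C⟩

/-- An element outside `O` lifting the common centre. -/
lemma exists_centre : ∃ y, S.φ1 y = 0 ∧ S.φ2 y = 0 ∧ y ∉ S.O ∧ S.u1 y - y ∈ S.C ∧
    S.u2 y - y ∈ S.C := by
  obtain ⟨a, ha, -⟩ := S.surj 1 0
  have hy := S.d1_mem a
  set y := S.u1 a - a with hyd
  have hn : y ∉ S.O := fun h => by simp [(S.mem1 a).1 h] at ha
  have h1 : S.u1 y = -y := by rw [hyd, map_sub, S.inv1, neg_sub]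
  refine ⟨y, hy.1, hy.2, hn, ?_, (S.mem2 y).2 hy.2, ?_, ?_⟩
  · rw [h1, show -y - y = -(y + y) by abel]
    exact S.C.neg_mem (S.double_mem_C hy.1 hy.2)
  · rw [map_sub, S.comm, h1, map_neg, show -S.u2 y - -y = -(S.u2 y - y) by abel,
      S.neg_eq ((S.mem2 y).2 hy.2)]
  · rw [map_sub, S.inv2, ← neg_sub (S.u2 y) y, S.neg_eq ((S.mem2 y).2 hy.2)]

lemma double_mem_C' {o : M} (h : ∃ z, o = z + z) :
    S.u1 o - o ∈ S.C ∧ S.u2 o - o ∈ S.C := by
  obtain ⟨z, rfl⟩ := h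
  constructor
  · rw [map_add, show S.u1 z + S.u1 z - (z + z) = (S.u1 z - z) + (S.u1 z - z) by abel]
    exact S.double_mem_C (S.d1_mem z).1 (S.d1_mem z).2
  · rw [map_add, show S.u2 z + S.u2 z - (z + z) = (S.u2 z - z) + (S.u2 z - z) by abel]
    exact S.double_mem_C (S.d2_mem z).1 (S.d2_mem z).2

variable {m k x : M}

lemma k_mem (L : S.Lifts m k x) (hm : m ∈ S.O) : k ∈ S.O := by
  obtain ⟨-, hk, hx⟩ := S.toOps.core L
  have h1 : S.u1 k ∈ S.O := by
    have : S.u1 k = (x + x) + (S.u1 (S.u2 x) - S.u2 x) + (S.u2 x - x) - S.r (S.r m) - m - S.r m := by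
      rw [show S.u1 k = S.u1 k + m + S.r m - m - S.r m by abel, L.f5]; abel
    rw [this]
    refine S.O.sub_mem (S.O.sub_mem (S.O.sub_mem (S.O.add_mem (S.O.add_mem (S.two x)
      ((S.mem1 _).2 ?_)) ((S.mem2 _).2 hx.2)) (S.rO _ (S.rO _ hm))) hm) (S.rO _ hm)
    rw [S.phi12, hx.1]
  exact (S.iff_of_eq (show S.u1 k = k + (S.u1 k - k) by abel) ((S.mem1 k).2 hk.1)).1 h1

/-- If `m` is fixed, so are the other squares and the commutator. -/
lemma k_mem_C (L : S.Lifts m k x) (hm : m ∈ S.C) : k ∈ S.C := by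
  have hk := S.k_mem L hm.1
  refine ⟨hk, ?_, ?_⟩
  · have h := L.f2
    rw [hm.2.2, right_eq_add] at h
    rw [eq_neg_of_add_eq_zero_right h, S.neg_eq hk]
  · have h := L.f3
    rw [(S.r_C hm).2.1, right_eq_add, show -k - S.u2 k = -(k + S.u2 k) by abel, neg_eq_zero] at h
    rw [eq_neg_of_add_eq_zero_right h, S.neg_eq hk]

/-- With trivial action on `O` modulo fixed elements the squares are fixed. -/
lemma fixed_of_triv (hC : ∀ o ∈ S.O, S.u1 o - o ∈ S.C ∧ S.u2 o - o ∈ S.C)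
    (L : S.Lifts m k x) (hm : m ∈ S.O) : m ∈ S.C := by
  obtain ⟨-, hk', hx⟩ := S.toOps.core L
  have hk := S.k_mem L hm
  refine ⟨hm, L.f1, ?_⟩
  set b := S.u2 m - m with hb
  have hbC : b ∈ S.C := (hC m hm).2
  have hrb : S.r b = b := S.r_fix hbC (S.h2 m hm)
  have hkb : S.u1 k = k + b := by
    rw [hb, L.f2]
    rw [show k + (k + S.u1 k + m - m) = (k + k) + S.u1 k by abel, S.two0 k hk, zero_add]
  have hm2 : S.u2 m = m + b := by rw [hb]; abel
  have hrm : S.u1 (S.r m) = S.r m + b := by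
    rw [← S.rev, hm2, map_add, L.f1, hbC.2.1, map_add, hrb]
  have hrrm : S.u1 (S.r (S.r m)) = S.r (S.r m) + b := by
    rw [← S.rev, show S.u2 (S.r m) = S.r m by rw [← S.rel1, L.f1], hrm, map_add, hrb]
  have hd : x + S.u1 (S.u2 x) ∈ S.C := by
    obtain ⟨y, hy1, hy2, hy3, hy4, hy5⟩ := S.exists_centre
    have key : S.u1 x - x ∈ S.C ∧ S.u2 x - x ∈ S.C := by
      by_cases hxO : x ∈ S.O
      · exact hC x hxO
      · have ho := hC _ (S.idx x y hx.1 hx.2 hy1 hy2 hxO hy3)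
        rw [map_add, map_add] at ho
        exact ⟨by simpa [add_sub_add_comm] using S.C.sub_mem ho.1 hy4,
          by simpa [add_sub_add_comm] using S.C.sub_mem ho.2 hy5⟩
    have e : x + S.u1 (S.u2 x) = (x + x) + (S.u1 x - x) + S.u1 (S.u2 x - x) := by
      rw [map_sub]; abel
    rw [e, key.2.2.1]
    exact S.C.add_mem (S.C.add_mem (S.double_mem_C hx.1 hx.2) key.1) key.2
  have h5 := congrArg S.u1 L.f5
  rw [map_add, map_add, S.inv1, L.f1, hrm, map_sub, hd.2.1, hrrm] at h5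
  have h5' := L.f5
  rw [hkb] at h5'
  have hb0 : b = 0 := by
    have e : k + m + (S.r m + b) - (k + b + m + S.r m) =
        (x + S.u1 (S.u2 x) - (S.r (S.r m) + b)) - (x + S.u1 (S.u2 x) - S.r (S.r m)) := by
      rw [h5, h5']
    rw [show k + m + (S.r m + b) - (k + b + m + S.r m) = 0 by abel] at e
    rw [show x + S.u1 (S.u2 x) - (S.r (S.r m) + b) - (x + S.u1 (S.u2 x) - S.r (S.r m)) = -b by abel] at e
    exact neg_eq_zero.1 e.symm
  rw [hm2, hb0, add_zero]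

/-- Otherwise a lift can be corrected. -/
lemma exists_fix (hC : ¬ ∀ o ∈ S.O, S.u1 o - o ∈ S.C ∧ S.u2 o - o ∈ S.C)
    (hm : m ∈ S.O) (hf : S.u1 m = m) : ∃ a ∈ S.O, S.u1 a + m + a ∈ S.C := by
  push Not at hC
  obtain ⟨o, ho, hor⟩ := hC
  have hiff : S.u1 o - o ∈ S.C ↔ S.u2 o - o ∈ S.C := by
    obtain ⟨z, hz⟩ := S.hr o ho
    rw [← S.r_C_iff, map_sub, S.rel1, show S.u2 (S.r o) - S.r o =
      (S.u2 o - o) + (S.u2 (z + z) - (z + z)) by rw [← hz, map_sub]; abel]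
    exact S.C.add_mem_cancel_right (S.double_mem_C' ⟨z, rfl⟩).2
  have h1 : S.u1 o - o ∉ S.C := fun h => hor h (hiff.1 h)
  have hnd : ¬ ∃ z, o = z + z := fun h => h1 (S.double_mem_C' h).1
  have hmd : ∃ z, m = z + z := by
    by_contra hn
    obtain ⟨z, hz⟩ := S.small m hm o ho hn hnd
    apply h1
    have := (S.double_mem_C' (o := m + o) ⟨z, hz⟩).1
    rwa [map_add, hf, show m + S.u1 o - (m + o) = S.u1 o - o by abel] at this
  by_cases hm2 : S.u2 m = m
  · exact ⟨0, S.O.zero_mem, by rw [map_zero, zero_add, add_zero]; exact ⟨hm, hf, hm2⟩⟩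
  refine ⟨o, ho, ?_⟩
  set d := S.u1 o - o with hd
  obtain ⟨z, hz⟩ := hmd
  obtain ⟨z', hz'⟩ := S.h1 o ho
  have hdO : d ∈ S.O := (S.mem1 o).2 (S.O_le o ho).1
  have hd1 : S.u1 d = d := by
    rw [hd, map_sub, S.inv1, ← neg_sub (S.u1 o) o, S.neg_eq hdO]
  have hd2 : S.u2 d ≠ d := fun h => h1 ⟨hdO, hd1, h⟩
  have conv : ∀ {a w : M}, a = w + w → S.u2 a ≠ a → S.u2 w - w ∉ S.O := by
    intro a w e hne h
    apply hne
    rw [← sub_eq_zero, e, map_add, show S.u2 w + S.u2 w - (w + w) = S.u2 w - w + (S.u2 w - w) by abel]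
    exact S.two0 _ h
  have he : S.u2 m - m = S.u2 d - d := by
    have e := S.double_unique (S.d2_mem z) (S.d2_mem z') (conv hz hm2) (conv hz' hd2)
    rw [hz, show d = z' + z' from hz', map_add, map_add]
    rw [show S.u2 z + S.u2 z - (z + z) = S.u2 z - z + (S.u2 z - z) by abel, e]
    abel
  rw [show S.u1 o + m + o = m + d + (o + o) by rw [hd]; abel, S.two0 o ho, add_zero]
  refine ⟨S.O.add_mem hm hdO, by rw [map_add, hf, hd1], ?_⟩
  rw [← sub_eq_zero, map_add, show S.u2 m + S.u2 d - (m + d) = (S.u2 m - m) + (S.u2 d - d) by abel,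
    he]
  exact S.two0 _ ((S.mem2 d).2 (S.O_le d hdO).2)

/-- Correcting a lift into `O`. -/
lemma exists_into (hm1 : S.φ1 m = 0) (hm2 : S.φ2 m = 0) : ∃ a, S.u1 a + m + a ∈ S.O := by
  by_cases h : m ∈ S.O
  · exact ⟨0, by simpa using h⟩
  obtain ⟨a, ha, -⟩ := S.surj 1 0
  refine ⟨a, ?_⟩
  have hn : S.u1 a - a ∉ S.O := fun hh => by simp [(S.mem1 a).1 hh] at ha
  rw [show S.u1 a + m + a = (m + (S.u1 a - a)) + (a + a) by abel]
  exact S.O.add_mem (S.idx m _ hm1 hm2 (S.d1_mem a).1 (S.d1_mem a).2 h hn) (S.two a)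

/-- Eight elements distinguished modulo the fixed elements of the kernel. -/
lemma exists_eight : ∃ f : ZMod 2 × ZMod 2 × ZMod 2 → M, Function.Injective (fun t => f t) ∧
    (∀ t, S.u1 (f t) - f t ∈ S.C ∧ S.u2 (f t) - f t ∈ S.C) ∧
    ∀ t t', f t - f t' ∈ S.C → t = t' := by
  obtain ⟨y, hy1, hy2, hy3, hy4, hy5⟩ := S.exists_centre
  obtain ⟨a, ha1, ha2⟩ := S.surj 1 0
  obtain ⟨b, hb1, hb2⟩ := S.surj 0 1
  let z : ZMod 2 → ZMod 2 → M := fun i j => (if i = 1 then a else 0) + (if j = 1 then b else 0)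
  have hz1 : ∀ i j, S.φ1 (z i j) = i ∧ S.φ2 (z i j) = j := by
    intro i j
    rcases zmod_two_cases i with rfl | rfl <;> rcases zmod_two_cases j with rfl | rfl <;>
      simp [z, ha1, ha2, hb1, hb2]
  let f : ZMod 2 × ZMod 2 × ZMod 2 → M := fun t =>
    (if t.1 = 1 then y else 0) + (z t.2.1 t.2.2 + z t.2.1 t.2.2)
  have key : ∀ t t', f t - f t' ∈ S.C → t = t' := by
    rintro ⟨p, i, j⟩ ⟨p', i', j'⟩ h
    have hp : p = p' := by
      by_contra hne
      apply hy3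
      rcases zmod_two_cases p with rfl | rfl <;> rcases zmod_two_cases p' with rfl | rfl <;>
        first
        | exact absurd rfl hne
        | (simp only [f, if_pos, zero_ne_one, if_neg, zero_add, not_false_eq_true] at h
           first
           | exact (S.iff_of_eq (show (y + (z i j + z i j) - (z i' j' + z i' j')) =
               y + ((z i j + z i j) - (z i' j' + z i' j')) by abel)
               (S.O.sub_mem (S.two _) (S.two _))).1 h.1
           | exact neg_mem_iff.1 ((S.iff_of_eq (show ((z i j + z i j) - (y + (z i' j' + z i' j'))) =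
               -y + ((z i j + z i j) - (z i' j' + z i' j')) by abel)
               (S.O.sub_mem (S.two _) (S.two _))).1 h.1))
    subst hp
    have h' : (z i j - z i' j') + (z i j - z i' j') ∈ S.C := by
      convert h using 1
      simp only [f]; abel
    obtain ⟨e1, e2⟩ := S.of_double_mem_C h'
    rw [map_sub, (hz1 i j).1, (hz1 i' j').1, sub_eq_zero] at e1
    rw [map_sub, (hz1 i j).2, (hz1 i' j').2, sub_eq_zero] at e2
    rw [e1, e2]
  refine ⟨f, fun t t' e => key t t' (by rw [show f t = f t' from e, sub_self]; exact S.C.zero_mem),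
    fun t => ?_, key⟩
  have hw := S.double_mem_C' (o := z t.2.1 t.2.2 + z t.2.1 t.2.2) ⟨_, rfl⟩
  rcases zmod_two_cases t.1 with e | e
  · simpa [f, e] using hw
  · simp only [f, e, if_pos, map_add]
    exact ⟨by simpa [add_sub_add_comm, map_add] using S.C.add_mem hy4 hw.1,
      by simpa [add_sub_add_comm, map_add] using S.C.add_mem hy5 hw.2⟩

end Sys

namespace Ops

variable {M : Type*} [AddCommGroup M] (S : Ops M) {m k x : M}

/-- The variant with a cyclic kernel of order four. -/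
lemma fixed_kernel (hfix : ∀ y, S.φ1 y = 0 → S.φ2 y = 0 → S.u1 y = y ∧ S.u2 y = y)
    (hr : ∀ y, S.φ1 y = 0 → S.φ2 y = 0 → S.r (y + y) = y + y)
    (h4 : ∀ y, S.φ1 y = 0 → S.φ2 y = 0 → y + y + (y + y) = 0)
    (L : S.Lifts m k x) : m + m = 0 ∧ k + k = 0 ∧ S.r m + S.r m = 0 := by
  obtain ⟨hm, hk, hx⟩ := S.core L
  have hk2 : k + k = 0 := by
    have h := L.f2
    rw [(hfix m hm.1 hm.2).2, (hfix k hk.1 hk.2).1, right_eq_add] at h
    exact h
  have e1 : S.r m + S.r m = m + m := by rw [← map_add, hr m hm.1 hm.2]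
  have e2 : S.r (S.r m) + S.r (S.r m) = m + m := by rw [← map_add, e1, hr m hm.1 hm.2]
  have h5 := L.f5
  rw [(hfix k hk.1 hk.2).1, (hfix x hx.1 hx.2).2, (hfix x hx.1 hx.2).1] at h5
  have hm0 : m + m = 0 := by
    have e : (k + k) + (m + m) + (S.r m + S.r m) =
        (x + x + (x + x)) - (S.r (S.r m) + S.r (S.r m)) := by
      rw [show (k + k) + (m + m) + (S.r m + S.r m) = (k + m + S.r m) + (k + m + S.r m) by abel, h5]
      abel
    rw [hk2, e1, e2, h4 x hx.1 hx.2, zero_add, zero_sub] at e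
    have h := h4 m hm.1 hm.2
    rw [h] at e
    exact neg_eq_zero.1 e.symm
  exact ⟨hm0, hk2, e1.trans hm0⟩

end Ops

end Cfsg.Agent.RadicalLThree
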