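import Cfsg.Agent.RadicalLThree.Elements

/-!
# Abelian normal subgroups mapping onto the natural module with squaring as the map
-/

set_option autoImplicit false
set_option linter.all false

namespace Cfsg.Agent.RadicalLThree

universe u v w

variable {L : Type v} [Group L] {N : Type w} [AddCommGroup N] {ρ : Rep L N} (d : Nat3 ρ)
variable {Y : Type u} [Group Y] [Finite Y] {π : Y →* L}
variable (R : Subgroup Y) [R.Normal] [IsMulCommutative R]

lemma mu_fix : ∀ v : V3, (mu1.mulVec v = v ↔ v 0 = 0) ∧ (mu2.mulVec v = v ↔ v 1 = 0) ∧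
    (v 0 = 0 → v 1 = 0 → v = 0 ∨ v = ![0, 0, 1]) := by decide

section

variable (pn : Additive R →+ N) (heq : ∀ g x, pn (act R g x) = ρ (π g) (pn x))
  {h r : Y} (T : Triple R h r) (ha : ∀ v, d.e (ρ (π h) v) = mu1.mulVec (d.e v))
  (hb : ∀ v, d.e (ρ (π r) v) = mur.mulVec (d.e v)) (hp : Function.Surjective pn)

include heq ha hb

omit [Finite Y] in
lemma coord1 (x : Additive R) : d.e (pn (act R h x)) = mu1.mulVec (d.e (pn x)) := by rw [heq, ha]

omit [Finite Y] in
lemma coordr (x : Additive R) : d.e (pn (act R r x)) = mur.mulVec (d.e (pn x)) := by rw [heq, hb]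

omit [Finite Y] in
lemma coord2 (x : Additive R) :
    d.e (pn (act R (r * h * r⁻¹) x)) = mu2.mulVec (d.e (pn x)) := by
  have key : ∀ w, d.e (pn (act R (r * h * r⁻¹) (act R r w))) = mu2.mulVec (d.e (pn (act R r w))) := by
    intro w
    rw [← act_mul, inv_mul_cancel_right, act_mul, coordr d R pn heq ha hb, coord1 d R pn heq ha hb,
      coordr d R pn heq ha hb, Matrix.mulVec_mulVec, Matrix.mulVec_mulVec, mu_rel.2.2.2.2.1]
  have := key (act R r⁻¹ x)
  rwa [← act_mul R r, mul_inv_cancel, act_of_mem R R.one_mem] at this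

include T hp

/-- The operators on an abelian normal subgroup lying over the natural module. -/
def mkOps : Ops (Additive R) where
  u1 := act R h
  u2 := act R (r * h * r⁻¹)
  r := act R r
  φ1 := (Pi.evalAddMonoidHom (fun _ : Fin 3 => ZMod 2) 0).comp (d.e.toAddMonoidHom.comp pn)
  φ2 := (Pi.evalAddMonoidHom (fun _ : Fin 3 => ZMod 2) 1).comp (d.e.toAddMonoidHom.comp pn)
  O := pn.ker
  O_le o ho := by
    show d.e (pn o) 0 = 0 ∧ d.e (pn o) 1 = 0
    rw [AddMonoidHom.mem_ker.1 ho, map_zero]; exact ⟨rfl, rfl⟩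
  idx x y x1 x2 y1 y2 hx hy := by
    have aux : ∀ z, d.e (pn z) 0 = 0 → d.e (pn z) 1 = 0 → z ∉ pn.ker → d.e (pn z) = ![0, 0, 1] :=
      fun z z1 z2 hz => ((mu_fix _).2.2 z1 z2).resolve_left fun e => hz
        (AddMonoidHom.mem_ker.2 (d.e.injective (e.trans (map_zero _).symm)))
    rw [AddMonoidHom.mem_ker]
    apply d.e.injective
    rw [map_add, map_add, aux x x1 x2 hx, aux y y1 y2 hy, map_zero, add_zmod_two]
  inv1 x := by rw [← act_mul, act_of_mem R T.hh]
  inv2 x := by rw [← act_mul, act_of_mem R T.h22]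
  comm x := by
    rw [← act_mul, ← act_mul, show r * h * r⁻¹ * h =
      (r * h * r⁻¹ * h * (r * h * r⁻¹)⁻¹ * h⁻¹) * (h * (r * h * r⁻¹)) by group,
      act_mul R (r * h * r⁻¹ * h * (r * h * r⁻¹)⁻¹ * h⁻¹), act_of_mem R T.hk]
  phi11 x := by
    show d.e (pn (act R h x)) 0 = d.e (pn x) 0
    rw [coord1 d R pn heq ha hb, (mu_apply _).1]; rfl
  phi12 x := by
    show d.e (pn (act R (r * h * r⁻¹) x)) 0 = d.e (pn x) 0
    rw [coord2 d R pn heq ha hb, (mu_apply _).2.1]; rfl
  phi21 x := by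
    show d.e (pn (act R h x)) 1 = d.e (pn x) 1
    rw [coord1 d R pn heq ha hb, (mu_apply _).1]; rfl
  phi22 x := by
    show d.e (pn (act R (r * h * r⁻¹) x)) 1 = d.e (pn x) 1
    rw [coord2 d R pn heq ha hb, (mu_apply _).2.1]; rfl
  mem1 x := by
    show _ ↔ d.e (pn x) 0 = 0
    rw [AddMonoidHom.mem_ker, map_sub, sub_eq_zero, ← d.e.injective.eq_iff,
      coord1 d R pn heq ha hb]
    exact (mu_fix _).1
  mem2 x := by
    show _ ↔ d.e (pn x) 1 = 0
    rw [AddMonoidHom.mem_ker, map_sub, sub_eq_zero, ← d.e.injective.eq_iff,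
      coord2 d R pn heq ha hb]
    exact (mu_fix _).2.1
  two x := by rw [AddMonoidHom.mem_ker, map_add, d.two_zero]
  rel1 x := by rw [← act_mul, ← act_mul, inv_mul_cancel_right]
  rel2 x := by
    rw [← act_rot R T.hx T.hk T.hh T.h22, ← act_mul, ← act_mul, inv_mul_cancel_right]
  phir1 x := by
    show d.e (pn (act R r x)) 0 = d.e (pn x) 0 + d.e (pn x) 1
    rw [coordr d R pn heq ha hb, (mu_apply _).2.2]; rfl
  phir2 x := by
    show d.e (pn (act R r x)) 1 = d.e (pn x) 0
    rw [coordr d R pn heq ha hb, (mu_apply _).2.2]; rfl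
  rO o ho := by
    rw [AddMonoidHom.mem_ker] at ho ⊢
    rw [heq, ho, map_zero]
  r3 x := by rw [← act_mul, ← act_mul, T.r3, act_of_mem R R.one_mem]
  surj a b := by
    obtain ⟨x, hx⟩ := hp (d.e.symm ![a, b, 0])
    exact ⟨x, by show d.e (pn x) 0 = a; rw [hx, d.e.apply_symm_apply]; rfl,
      by show d.e (pn x) 1 = b; rw [hx, d.e.apply_symm_apply]; rfl⟩

end

omit [R.Normal] [IsMulCommutative R] in
/-- Elementary abelian subgroups have order at most sixteen. -/
lemma card_le_of_elementary (h4 : SectionalPRankLE 2 4 Y) (h2 : ∀ a ∈ R, a * a = 1) :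
    Nat.card R ≤ 16 := by
  have hi : ∀ a : R, a⁻¹ = a := fun a => inv_eq_of_mul_eq_one_right (Subtype.ext (h2 a a.2))
  have hc : ∀ a b : R, a * b = b * a := fun a b => by rw [← hi (a * b), mul_inv_rev, hi, hi]
  let p := QuotientGroup.mk' (⊥ : Subgroup R)
  have h := h4 R ⊥ ⊤ ⟨⟨fun a b => Subtype.ext (by
      obtain ⟨a0, ha⟩ := QuotientGroup.mk'_surjective (⊥ : Subgroup R) a.1
      obtain ⟨b0, hb⟩ := QuotientGroup.mk'_surjective (⊥ : Subgroup R) b.1
      show a.1 * b.1 = b.1 * a.1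
      rw [← ha, ← hb, ← map_mul, ← map_mul, hc])⟩⟩
    (fun a _ => by
      obtain ⟨a0, rfl⟩ := QuotientGroup.mk'_surjective (⊥ : Subgroup R) a
      rw [pow_two, ← map_mul, show a0 * a0 = 1 from Subtype.ext (h2 a0 a0.2), map_one])
  rw [Subgroup.card_top, ← Subgroup.index_eq_card, Subgroup.index_bot] at h
  exact h

include d

/-- No abelian normal subgroup of index at most two has squaring inducing the map to the natural
module. -/
theorem contra [Finite L] [IsSimpleGroup L] (h4 : SectionalPRankLE 2 4 Y)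
    (hπ : Function.Surjective π) (hQ : IsPGroup 2 π.ker)
    (hidx : ∀ x, π x = 1 → ∀ y, π y = 1 → x ∉ R → y ∉ R → x * y ∈ R)
    (pn : Additive R →+ N) (hp : Function.Surjective pn)
    (heq : ∀ g x, pn (act R g x) = ρ (π g) (pn x)) (hker : ∀ x, pn x = 0 ↔ x + x = 0)
    (hh : ∀ h : Y, π (h * h) = 1 → π h ≠ 1 →
      (∀ v, d.e (ρ (π h) v) = mu1.mulVec (d.e v)) → h * h ∈ R) : False := by
  obtain ⟨h0, r, hr, hh0, hne, hx, ha, hb⟩ := exists_lifts d hπ hQ
  obtain ⟨h, hhπ, T⟩ := exists_triple R hr (hh h0 hh0 hne ha) hidx hx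
  rw [← hhπ] at ha
  set O := pn.ker with hO
  have memO : ∀ x, x ∈ O ↔ x + x = 0 := fun x => hker x
  let dbl : Additive R →+ Additive R := nsmulAddMonoidHom 2
  have dbl_apply : ∀ x, dbl x = x + x := fun x => two_nsmul x
  have hker' : dbl.ker = O := by
    ext x; rw [AddMonoidHom.mem_ker, dbl_apply, memO]
  have hN : Nat.card N = 8 := by rw [Nat.card_congr d.e.toEquiv]; simp
  have hD8 : Nat.card dbl.range = 8 := by
    rw [← AddSubgroup.index_ker, hker', hO, AddSubgroup.index_ker,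
      AddMonoidHom.range_eq_top.2 hp, AddSubgroup.card_top, hN]
  have hDO : dbl.range ≤ O := by
    rintro _ ⟨x, rfl⟩
    show pn (dbl x) = 0
    rw [dbl_apply, map_add, d.two_zero]
  have hO16 : Nat.card O ≤ 16 := by
    let O' : Subgroup Y :=
      { carrier := {y | ∃ x ∈ O, (x.toMul : Y) = y}
        one_mem' := ⟨0, O.zero_mem, rfl⟩
        mul_mem' := by
          rintro _ _ ⟨x, hx, rfl⟩ ⟨y, hy, rfl⟩
          exact ⟨x + y, O.add_mem hx hy, rfl⟩
        inv_mem' := by
          rintro _ ⟨x, hx, rfl⟩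
          exact ⟨-x, O.neg_mem hx, rfl⟩ }
    have h16 := card_le_of_elementary (R := O') h4 (by
      rintro _ ⟨x, hx, rfl⟩
      exact congrArg (fun y : Additive R => (y.toMul : Y)) ((memO x).1 hx))
    refine le_trans (Nat.card_le_card_of_injective (fun x : O => (⟨(x.1.toMul : Y), x.1, x.2, rfl⟩ : O')) ?_) h16
    exact fun x y e => Subtype.ext (ext_val R ((congrArg Subtype.val e) :))
  have small : ∀ o ∈ O, ∀ o' ∈ O, (¬∃ z, o = z + z) → (¬∃ z, o' = z + z) →
      ∃ z, o + o' = z + z := by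
    intro o ho o' ho' hn hn'
    have nm : ∀ {y : O}, (¬∃ z, (y : Additive R) = z + z) → y ∉ dbl.range.addSubgroupOf O := by
      intro y hy hm
      obtain ⟨z, hz⟩ := AddSubgroup.mem_addSubgroupOf.1 hm
      exact hy ⟨z, by rw [← hz, dbl_apply]⟩
    have hc := (dbl.range.addSubgroupOf O).card_mul_index
    rw [Nat.card_congr (AddSubgroup.addSubgroupOfEquivOfLe hDO).toEquiv, hD8] at hc
    have hi0 : (dbl.range.addSubgroupOf O).index ≠ 0 := AddSubgroup.index_ne_zero_of_finite
    have hi2 : (dbl.range.addSubgroupOf O).index ≤ 2 := by omega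
    rcases (show (dbl.range.addSubgroupOf O).index = 1 ∨ (dbl.range.addSubgroupOf O).index = 2 by omega)
      with e | e
    · exact absurd (AddSubgroup.index_eq_one.1 e ▸ AddSubgroup.mem_top (⟨o, ho⟩ : O)) (nm hn)
    · obtain ⟨z, hz⟩ := AddSubgroup.mem_addSubgroupOf.1
        ((AddSubgroup.add_mem_iff_of_index_two e (a := (⟨o, ho⟩ : O)) (b := ⟨o', ho'⟩)).2
          (iff_of_false (nm hn) (nm hn')))
      exact ⟨z, by rw [← dbl_apply]; exact hz.symm⟩
  have moved : ∀ g, ∀ o ∈ O, ∃ z, act R g o - o = z + z := by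
    intro g o ho
    by_cases hd : ∃ z, o = z + z
    · obtain ⟨z, rfl⟩ := hd
      exact ⟨act R g z - z, by rw [map_add]; abel⟩
    · have hgo : act R g o ∈ O := by rw [memO, ← map_add, (memO o).1 ho, map_zero]
      have hdg : ¬∃ z, act R g o = z + z := by
        rintro ⟨z, hz⟩
        refine hd ⟨act R g⁻¹ z, ?_⟩
        rw [← map_add, ← hz, ← act_mul, inv_mul_cancel, act_of_mem R R.one_mem]
      obtain ⟨z, hz⟩ := small _ hgo o ho hdg hd
      exact ⟨z, by rw [sub_eq_add_neg, neg_eq_of_add_eq_zero_left ((memO o).1 ho), hz]⟩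
  exact sys_contradiction h4 T
    { toOps := mkOps d R pn heq T ha hb hp
      two0 := fun o ho => (memO o).1 ho
      inj := fun x hx => (memO x).2 hx
      hr := moved r
      h1 := moved h
      h2 := moved (r * h * r⁻¹)
      small := small }
    (fun a => rfl) (fun a => rfl) (fun a => rfl)

end Cfsg.Agent.RadicalLThree
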