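import Mathlib
import Cfsg.Agent.SmallGroups.Order168

/-!
# Elementary abelian modules of order at most sixteen for the simple group of order 168
-/

set_option autoImplicit false
set_option linter.all false

namespace Cfsg.Agent.RadicalLThree

open Cfsg.Agent

abbrev V3 : Type := Fin 3 → ZMod 2

/-- A transvection. -/
def mu1 : Matrix (Fin 3) (Fin 3) (ZMod 2) := !![1, 0, 0; 0, 1, 0; 1, 0, 1]
/-- A second transvection with the same centre. -/
def mu2 : Matrix (Fin 3) (Fin 3) (ZMod 2) := !![1, 0, 0; 0, 1, 0; 0, 1, 1]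
/-- An element of order three permuting the transvections. -/
def mur : Matrix (Fin 3) (Fin 3) (ZMod 2) := !![1, 1, 0; 1, 0, 0; 0, 0, 1]

lemma mu_rel : mu1 * mu1 = 1 ∧ mu2 * mu2 = 1 ∧ mu1 * mu2 = mu2 * mu1 ∧ mur * mur * mur = 1 ∧
    mur * mu1 = mu2 * mur ∧ mur * mu2 = mu1 * mu2 * mur ∧ mu1.det = 1 ∧ mu2.det = 1 ∧
    mur.det = 1 ∧ mu1 ≠ 1 ∧ mur ≠ 1 := by
  decide

lemma mu_apply (v : V3) : mu1.mulVec v = ![v 0, v 1, v 0 + v 2] ∧
    mu2.mulVec v = ![v 0, v 1, v 1 + v 2] ∧ mur.mulVec v = ![v 0 + v 1, v 0, v 2] := by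
  revert v; decide

lemma exists_move : ∀ x : V3, x ≠ 0 →
    ∃ M : Matrix (Fin 3) (Fin 3) (ZMod 2), M.det = 1 ∧ M.mulVec ![1, 0, 0] = x := by
  decide +kernel

lemma exists_move_pair : ∀ x y : V3, x ≠ 0 → y ≠ 0 → x ≠ y →
    ∃ M : Matrix (Fin 3) (Fin 3) (ZMod 2), M.det = 1 ∧ M.mulVec ![1, 0, 0] = x ∧
      M.mulVec ![0, 1, 0] = y := by
  decide +kernel

set_option synthInstance.maxHeartbeats 200000 in
set_option synthInstance.maxSize 512 in
lemma fixed_pair : ∀ z : V3, (∀ M : Matrix (Fin 3) (Fin 3) (ZMod 2), M.det = 1 →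
    M.mulVec ![1, 0, 0] = ![1, 0, 0] → M.mulVec ![0, 1, 0] = ![0, 1, 0] → M.mulVec z = z) →
    z = 0 ∨ z = ![1, 0, 0] ∨ z = ![0, 1, 0] ∨ z = ![1, 1, 0] := by
  decide +kernel

lemma fixed_line : ∀ n : V3, (∀ M : Matrix (Fin 3) (Fin 3) (ZMod 2), M.det = 1 →
    M.mulVec ![1, 0, 0] = ![1, 0, 0] → M.mulVec n = n ∨ M.mulVec n = n + ![1, 0, 0]) →
    n = 0 ∨ n = ![1, 0, 0] := by
  decide +kernel

lemma add_zmod_two (v : V3) : v + v = 0 := by revert v; decide

variable {L : Type*} [Group L]

/-- An action by additive maps. -/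
abbrev Rep (L : Type*) [Group L] (M : Type*) [AddCommGroup M] := L →* AddMonoid.End M

section rep

variable {M : Type*} [AddCommGroup M] (ρ : Rep L M)

lemma rep_mul (g h : L) (v : M) : ρ (g * h) v = ρ g (ρ h v) := by rw [map_mul]; rfl

lemma rep_one (v : M) : ρ 1 v = v := by rw [map_one]; rfl

lemma rep_inv (g : L) (v : M) : ρ g⁻¹ (ρ g v) = v := by
  rw [← rep_mul, inv_mul_cancel, rep_one]

lemma rep_inj (g : L) : Function.Injective (ρ g) := fun a b h => by
  rw [← rep_inv ρ g a, h, rep_inv]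

/-- The action as a multiplicative action. -/
@[reducible] def repAction : MulAction L M where
  smul g v := ρ g v
  one_smul v := rep_one ρ v
  mul_smul g h v := rep_mul ρ g h v

/-- The orbit of a vector. -/
def orb (x : M) : Set M := Set.range fun g : L => ρ g x

lemma orb_invariant {x y : M} (h : y ∈ orb ρ x) (g : L) : ρ g y ∈ orb ρ x := by
  obtain ⟨k, rfl⟩ := h
  exact ⟨g * k, rep_mul ρ g k x⟩

lemma self_mem_orb (x : M) : x ∈ orb ρ x := ⟨1, rep_one ρ x⟩

lemma orb_eq {x y : M} (h : y ∈ orb ρ x) : orb ρ y = orb ρ x := by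
  obtain ⟨k, rfl⟩ := h
  ext z; constructor
  · rintro ⟨g, rfl⟩; exact ⟨g * k, rep_mul ρ g k x⟩
  · rintro ⟨g, rfl⟩
    exact ⟨g * k⁻¹, by show ρ (g * k⁻¹) (ρ k x) = ρ g x; rw [rep_mul, rep_inv]⟩

/-- The stabiliser of a vector. -/
def stab (x : M) : Subgroup L where
  carrier := {g | ρ g x = x}
  one_mem' := rep_one ρ x
  mul_mem' := fun {a b} ha hb => by show ρ (a * b) x = x; rw [rep_mul, hb, ha]
  inv_mem' := fun {a} ha => by
    show ρ a⁻¹ x = x
    conv_lhs => rw [← ha]
    rw [rep_inv]

lemma card_orb (x : M) : Nat.card (orb ρ x) = (stab ρ x).index := by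
  letI := repAction ρ
  have h := MulAction.index_stabilizer L x
  rw [Set.ncard_def, ← Set.ncard_def, ← Nat.card_coe_set_eq] at h
  exact h.symm

variable [Finite L] [IsSimpleGroup L]

/-- Nothing acts non-trivially and quadratically on a series with trivial factors. -/
lemma trivial_of_series (hL : Nat.card L = 168) {D : AddSubgroup M}
    (h1 : ∀ g, ∀ v ∈ D, ρ g v = v) (h2 : ∀ g v, ρ g v - v ∈ D) : ∀ g v, ρ g v = v := by
  intro g v
  let f : L →* Multiplicative M := MonoidHom.mk' (fun g => Multiplicative.ofAdd (ρ g v - v))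
    fun a b => by
      rw [← ofAdd_add]
      congr 1
      rw [rep_mul]
      conv_lhs => rw [show ρ b v = (ρ b v - v) + v by abel, map_add, h1 a _ (h2 b v)]
      abel
  rcases SmallGroups.injective_or_trivial f with hf | hf
  · exact absurd ⟨⟨fun a b => hf (by rw [map_mul, map_mul, mul_comm])⟩⟩ (SmallGroups.Order168.not_comm hL)
  · exact sub_eq_zero.1 (congrArg Multiplicative.toAdd (hf g))

/-- An element acting trivially forces the action to be trivial. -/
lemma trivial_of_elt {d : L} (hd : d ≠ 1) (h : ∀ v, ρ d v = v) : ∀ g v, ρ g v = v := by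
  let K : Subgroup L :=
    { carrier := {g | ∀ v, ρ g v = v}
      one_mem' := rep_one ρ
      mul_mem' := fun {a b} ha hb v => by rw [rep_mul, hb, ha]
      inv_mem' := fun {a} ha v => by
        show ρ a⁻¹ v = v
        conv_lhs => rw [← ha v]
        rw [rep_inv] }
  have hn : K.Normal := ⟨fun a ha b v => by
    show ρ (b * a * b⁻¹) v = v
    rw [rep_mul, rep_mul, ha, ← rep_mul, mul_inv_cancel, rep_one]⟩
  have hK := SmallGroups.eq_top_of_normal hn (fun e => hd (by
    have : d ∈ K := h
    rw [e] at this; exact this))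
  intro g v
  have : g ∈ K := hK ▸ trivial
  exact this v

/-- Sizes of orbits. -/
lemma card_orb_cases (hL : Nat.card L = 168) (x : M) (hne : ∃ g, ρ g x ≠ x) :
    7 ≤ Nat.card (orb ρ x) ∧ Nat.card (orb ρ x) ∣ 168 := by
  rw [card_orb]
  refine ⟨?_, hL ▸ Subgroup.index_dvd_card _⟩
  by_contra hlt
  have : stab ρ x = ⊤ := by
    refine SmallGroups.eq_top_of_not_dvd (SmallGroups.Order168.not_comm hL) ?_
    have h0 : (stab ρ x).index ≠ 0 := Subgroup.index_ne_zero_of_finite
    rw [hL]
    generalize (stab ρ x).index = n at hlt h0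
    push Not at hlt
    interval_cases n <;> decide
  obtain ⟨g, hg⟩ := hne
  exact hg (show g ∈ stab ρ x by rw [this]; trivial)

lemma trivial_of_small (hL : Nat.card L = 168) [Finite M] (hM : Nat.card M ≤ 4) :
    ∀ g v, ρ g v = v := by
  intro g v
  by_contra h
  have := (card_orb_cases ρ hL v ⟨g, h⟩).1
  have h2 := Set.ncard_le_ncard (Set.subset_univ (orb ρ v))
  rw [Set.ncard_univ, ← Nat.card_coe_set_eq] at h2
  omega

end rep

/-- The natural module. -/
structure Nat3 {N : Type*} [AddCommGroup N] (ρ : Rep L N) where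
  e : N ≃+ V3
  full : ∀ A : Matrix (Fin 3) (Fin 3) (ZMod 2), A.det = 1 → ∃ g : L, ∀ v, e (ρ g v) = A.mulVec (e v)

lemma finrank_of_card {N : Type*} [AddCommGroup N] [Finite N] (h8 : Nat.card N = 8)
    (h2 : ∀ v : N, v + v = 0) : Nonempty (N ≃+ V3) := by
  letI : Module (ZMod 2) N := AddCommGroup.zmodModule fun x => by rw [two_nsmul]; exact h2 x
  have hd : Module.finrank (ZMod 2) N = 3 := by
    have h := Module.natCard_eq_pow_finrank (K := ZMod 2) (V := N)
    rw [h8, Nat.card_zmod] at h
    exact (Nat.pow_right_injective le_rfl (show 2 ^ 3 = 2 ^ _ by norm_num; exact h)).symm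
  exact ⟨((Module.finBasisOfFinrankEq (ZMod 2) N hd).equivFun).toAddEquiv⟩

section natural

variable [Finite L] [IsSimpleGroup L]

/-- A non-trivial module of order eight is natural. -/
theorem exists_nat3 (hL : Nat.card L = 168) {N : Type*} [AddCommGroup N] [Finite N] (ρ : Rep L N)
    (h8 : Nat.card N = 8) (h2 : ∀ v : N, v + v = 0) (hnt : ∃ g v, ρ g v ≠ v) :
    Nonempty (Nat3 ρ) := by
  obtain ⟨e⟩ := finrank_of_card h8 h2
  let T : L → V3 →ₗ[ZMod 2] V3 := fun g =>
    ((e.toAddMonoidHom.comp (ρ g : N →+ N)).comp e.symm.toAddMonoidHom).toZModLinearMap 2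
  have hT : ∀ g v, T g v = e (ρ g (e.symm v)) := fun g v => rfl
  let f : L →* Matrix (Fin 3) (Fin 3) (ZMod 2) :=
    { toFun := fun g => LinearMap.toMatrix' (T g)
      map_one' := by
        rw [← LinearMap.toMatrix'_id]
        congr 1
        exact LinearMap.ext fun v => by rw [hT, rep_one, e.apply_symm_apply]; rfl
      map_mul' := fun g h => by
        rw [← LinearMap.toMatrix'_comp]
        congr 1
        exact LinearMap.ext fun v => by
          rw [LinearMap.comp_apply, hT, hT, hT, e.symm_apply_apply, rep_mul] }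
  have hf : ∀ g v, e (ρ g v) = (f g).mulVec (e v) := fun g v => by
    show _ = (LinearMap.toMatrix' (T g)).mulVec _
    rw [← Matrix.toLin'_apply, Matrix.toLin'_toMatrix', hT, e.symm_apply_apply]
  have hinj : Function.Injective f.toHomUnits := by
    rcases SmallGroups.injective_or_trivial f.toHomUnits with h | h
    · exact h
    · obtain ⟨g, v, hgv⟩ := hnt
      have h1 : f g = 1 := congrArg Units.val (h g)
      exact absurd (e.injective (by rw [hf, h1, Matrix.one_mulVec])) hgv
  have hGL : Nat.card (GL (Fin 3) (ZMod 2)) = 168 := by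
    rw [Matrix.card_GL_field, ZMod.card]; rfl
  have hbij : Function.Bijective f.toHomUnits :=
    hinj.bijective_of_nat_card_le (by rw [hL, ← hGL])
  refine ⟨⟨e, fun A hA => ?_⟩⟩
  obtain ⟨g, hg⟩ := hbij.2 (Matrix.nonsingInvUnit A (by rw [hA]; exact isUnit_one))
  exact ⟨g, fun v => by rw [hf, show f g = A from congrArg Units.val hg]⟩

end natural

namespace Nat3

variable {N : Type*} [AddCommGroup N] {ρ : Rep L N} (d : Nat3 ρ)
include d

lemma move {x : N} (hx : x ≠ 0) : ∃ g, ρ g (d.e.symm ![1, 0, 0]) = x := by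
  obtain ⟨A, hA, e⟩ := exists_move (d.e x) (by simpa using hx)
  obtain ⟨g, hg⟩ := d.full A hA
  exact ⟨g, d.e.injective (by rw [hg, d.e.apply_symm_apply, e])⟩

lemma transitive {x y : N} (hx : x ≠ 0) (hy : y ≠ 0) : ∃ g, ρ g x = y := by
  obtain ⟨g, rfl⟩ := d.move hx
  obtain ⟨k, rfl⟩ := d.move hy
  exact ⟨k * g⁻¹, by rw [rep_mul, rep_inv]⟩

lemma pair {x y : N} (hx : x ≠ 0) (hy : y ≠ 0) (hxy : x ≠ y) :
    ∃ g, ρ g (d.e.symm ![1, 0, 0]) = x ∧ ρ g (d.e.symm ![0, 1, 0]) = y := by
  obtain ⟨A, hA, e1, e2⟩ := exists_move_pair (d.e x) (d.e y) (by simpa using hx) (by simpa using hy)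
    (by simpa using hxy)
  obtain ⟨g, hg⟩ := d.full A hA
  exact ⟨g, d.e.injective (by rw [hg, d.e.apply_symm_apply, e1]),
    d.e.injective (by rw [hg, d.e.apply_symm_apply, e2])⟩

lemma pair_transitive {x y x' y' : N} (hx : x ≠ 0) (hy : y ≠ 0) (hxy : x ≠ y) (hx' : x' ≠ 0)
    (hy' : y' ≠ 0) (hxy' : x' ≠ y') : ∃ g, ρ g x = x' ∧ ρ g y = y' := by
  obtain ⟨g, rfl, rfl⟩ := d.pair hx hy hxy
  obtain ⟨k, rfl, rfl⟩ := d.pair hx' hy' hxy'
  exact ⟨k * g⁻¹, by rw [rep_mul, rep_inv], by rw [rep_mul, rep_inv]⟩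

lemma two_zero (v : N) : v + v = 0 := d.e.injective (by rw [map_add, map_zero, add_zmod_two])

/-- Vectors fixed by the pointwise stabiliser of two vectors. -/
lemma fixed_two {x y z : N} (hx : x ≠ 0) (hy : y ≠ 0) (hxy : x ≠ y)
    (h : ∀ g, ρ g x = x → ρ g y = y → ρ g z = z) : z = 0 ∨ z = x ∨ z = y ∨ z = x + y := by
  obtain ⟨k, rfl, rfl⟩ := d.pair hx hy hxy
  have key := fixed_pair (d.e (ρ k⁻¹ z)) (fun A hA a1 a2 => by
    obtain ⟨g, hg⟩ := d.full A hA
    have b1 : ρ g (d.e.symm ![1, 0, 0]) = d.e.symm ![1, 0, 0] :=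
      d.e.injective (by rw [hg, d.e.apply_symm_apply, a1])
    have b2 : ρ g (d.e.symm ![0, 1, 0]) = d.e.symm ![0, 1, 0] :=
      d.e.injective (by rw [hg, d.e.apply_symm_apply, a2])
    have := h (k * g * k⁻¹) (by rw [rep_mul, rep_mul, rep_inv, b1])
      (by rw [rep_mul, rep_mul, rep_inv, b2])
    rw [rep_mul, rep_mul] at this
    rw [← hg]
    have h' := congrArg (ρ k⁻¹) this
    rw [rep_inv] at h'
    rw [h'])
  have hz : z = ρ k (ρ k⁻¹ z) := by rw [← rep_mul, mul_inv_cancel, rep_one]
  rw [hz]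
  generalize ρ k⁻¹ z = t at key
  rcases key with e | e | e | e
  · left; rw [show t = 0 from d.e.injective (by simpa using e), map_zero]
  · right; left; rw [show t = d.e.symm ![1, 0, 0] from d.e.eq_symm_apply.2 e]
  · right; right; left; rw [show t = d.e.symm ![0, 1, 0] from d.e.eq_symm_apply.2 e]
  · right; right; right
    rw [← map_add, ← map_add]
    congr 1
    apply d.e.eq_symm_apply.2
    rw [e]; simp

/-- Vectors fixed by the stabiliser of `x`, up to adding `x`. -/
lemma fixed_one {x n : N} (hx : x ≠ 0) (h : ∀ g, ρ g x = x → ρ g n = n ∨ ρ g n = n + x) :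
    n = 0 ∨ n = x := by
  obtain ⟨k, rfl⟩ := d.move hx
  have key := fixed_line (d.e (ρ k⁻¹ n)) (fun A hA a1 => by
    obtain ⟨g, hg⟩ := d.full A hA
    have b1 : ρ g (d.e.symm ![1, 0, 0]) = d.e.symm ![1, 0, 0] :=
      d.e.injective (by rw [hg, d.e.apply_symm_apply, a1])
    have := h (k * g * k⁻¹) (by rw [rep_mul, rep_mul, rep_inv, b1])
    rw [rep_mul, rep_mul] at this
    rw [← hg]
    rcases this with e | e
    · left
      have h' := congrArg (ρ k⁻¹) e
      rw [rep_inv] at h'
      rw [h']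
    · right
      have h' := congrArg (ρ k⁻¹) e
      rw [rep_inv, map_add, rep_inv] at h'
      rw [h', map_add, d.e.apply_symm_apply])
  have hz : n = ρ k (ρ k⁻¹ n) := by rw [← rep_mul, mul_inv_cancel, rep_one]
  rw [hz]
  generalize ρ k⁻¹ n = t at key
  rcases key with e | e
  · left; rw [show t = 0 from d.e.injective (by simpa using e), map_zero]
  · right; rw [show t = d.e.symm ![1, 0, 0] from d.e.eq_symm_apply.2 e]

end Nat3

/-- An invariant subgroup of order eight with non-trivial action. -/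
structure Hyp {M : Type*} [AddCommGroup M] (ρ : Rep L M) where
  D : AddSubgroup M
  inv : ∀ g, ∀ v ∈ D, ρ g v ∈ D
  card : Nat.card D = 8

/-- The restriction to an invariant subgroup. -/
def Hyp.rep {M : Type*} [AddCommGroup M] {ρ : Rep L M} (H : Hyp ρ) : Rep L H.D where
  toFun g := (((ρ g : M →+ M).comp H.D.subtype).codRestrict H.D fun v => H.inv g v v.2)
  map_one' := AddMonoidHom.ext fun v => Subtype.ext (rep_one ρ v.1)
  map_mul' g h := AddMonoidHom.ext fun v => Subtype.ext (rep_mul ρ g h v.1)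

variable [Finite L] [IsSimpleGroup L] (hL : Nat.card L = 168)
variable {M : Type*} [AddCommGroup M] [Finite M] (ρ : Rep L M) (h2 : ∀ v : M, v + v = 0)

include hL h2

omit [Finite L] [IsSimpleGroup L] hL in
lemma card_pow_two : ∃ n, Nat.card M = 2 ^ n := by
  letI : Module (ZMod 2) M := AddCommGroup.zmodModule fun x => by rw [two_nsmul]; exact h2 x
  exact ⟨_, by rw [Module.natCard_eq_pow_finrank (K := ZMod 2) (V := M), Nat.card_zmod]⟩

lemma card_cases (hnt : ∃ g v, ρ g v ≠ v) (hle : Nat.card M ≤ 16) :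
    Nat.card M = 8 ∨ Nat.card M = 16 := by
  obtain ⟨n, hn⟩ := card_pow_two h2
  have : 4 < Nat.card M := by
    by_contra h
    push Not at h
    obtain ⟨g, v, hgv⟩ := hnt
    exact hgv (trivial_of_small ρ hL h g v)
  rw [hn] at this hle ⊢
  have : n ≤ 4 := (Nat.pow_le_pow_iff_right (by norm_num : 1 < 2)).1 hle
  interval_cases n <;> simp_all

omit h2 in
lemma Hyp.nontrivial (H : Hyp ρ) (h16 : Nat.card M = 16) (hnt : ∃ g v, ρ g v ≠ v) :
    ∃ g v, H.rep g v ≠ v := by
  by_contra h
  push Not at h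
  have h1 : ∀ g, ∀ v ∈ H.D, ρ g v = v := fun g v hv => congrArg Subtype.val (h g ⟨v, hv⟩)
  have hidx : H.D.index = 2 := by
    have := H.D.card_mul_index
    rw [H.card, h16] at this; omega
  have h2' : ∀ g v, ρ g v - v ∈ H.D := by
    intro g v
    by_cases hv : v ∈ H.D
    · exact H.D.sub_mem (H.inv g v hv) hv
    · rw [sub_eq_add_neg, AddSubgroup.add_mem_iff_of_index_two hidx, neg_mem_iff]
      refine iff_of_false (fun hg => hv ?_) hv
      have := H.inv g⁻¹ _ hg
      rwa [rep_inv] at this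
  obtain ⟨g, v, hgv⟩ := hnt
  exact hgv (trivial_of_series ρ hL h1 h2' g v)

/-- The invariant subgroup is natural. -/
lemma Hyp.exists_nat3 (H : Hyp ρ) (h16 : Nat.card M = 16) (hnt : ∃ g v, ρ g v ≠ v) :
    Nonempty (Nat3 H.rep) :=
  RadicalLThree.exists_nat3 hL H.rep H.card (fun v => Subtype.ext (h2 v.1))
    (H.nontrivial hL ρ h16 hnt)

/-- Outside the invariant subgroup there is a fixed vector, or no involution fixes anything. -/
lemma Hyp.outside (H : Hyp ρ) (h16 : Nat.card M = 16) {x : M} (hx : x ∉ H.D) :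
    (∃ c, c ∉ H.D ∧ ∀ g, ρ g c = c) ∨
      (Nat.card (orb ρ x) = 8 ∧ ∀ g : L, g * g = 1 → g ≠ 1 → ρ g x ≠ x) := by
  by_cases hfix : ∀ g, ρ g x = x
  · exact .inl ⟨x, hx, hfix⟩
  push Not at hfix
  obtain ⟨h7, hdvd⟩ := card_orb_cases ρ hL x hfix
  set Out : Set M := {v | v ∉ H.D} with hOut
  have hOc : Out.ncard = 8 := by
    have e : Out = (H.D : Set M)ᶜ := rfl
    rw [e, Set.ncard_compl, ← Nat.card_coe_set_eq (H.D : Set M),
      show Nat.card (H.D : Set M) = 8 from H.card, h16]
  have hsub : orb ρ x ⊆ Out := by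
    rintro _ ⟨g, rfl⟩ hg
    have := H.inv g⁻¹ _ hg
    rw [rep_inv] at this
    exact hx this
  have hle := Set.ncard_le_ncard hsub
  rw [hOc, ← Nat.card_coe_set_eq] at hle
  rcases (show Nat.card (orb ρ x) = 7 ∨ Nat.card (orb ρ x) = 8 by omega) with h | h
  · left
    have hd : (Out \ orb ρ x).ncard = 1 := by
      rw [Set.ncard_sdiff hsub, hOc, ← Nat.card_coe_set_eq, h]
    obtain ⟨c, hc⟩ := Set.ncard_eq_one.1 hd
    have hc' : c ∈ Out \ orb ρ x := by rw [hc]; rfl
    refine ⟨c, hc'.1, fun g => ?_⟩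
    have : ρ g c ∈ Out \ orb ρ x := by
      refine ⟨fun hg => hc'.1 ?_, fun hg => hc'.2 ?_⟩
      · have := H.inv g⁻¹ _ hg; rwa [rep_inv] at this
      · have := orb_invariant ρ hg g⁻¹; rwa [rep_inv] at this
    rw [hc] at this
    exact this
  · refine .inr ⟨h, fun g hg hg1 hgx => ?_⟩
    have hs : Nat.card (stab ρ x) = 21 := by
      have := (stab ρ x).card_mul_index
      rw [← card_orb, h, hL] at this; omega
    have hord : orderOf (⟨g, hgx⟩ : stab ρ x) = 2 :=
      orderOf_eq_prime (Subtype.ext (by simpa [pow_two] using hg)) (fun e => hg1 (congrArg Subtype.val e))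
    have := orderOf_dvd_natCard (⟨g, hgx⟩ : stab ρ x)
    rw [hord, hs] at this
    omega

/-- Without an invariant subgroup of order eight some non-zero vector is fixed. -/
lemma exists_fixed_of_no_hyp (h16 : Nat.card M = 16) (hnt : ∃ g v, ρ g v ≠ v)
    (hno : IsEmpty (Hyp ρ)) : ∃ z : M, z ≠ 0 ∧ ∀ g, ρ g z = z := by
  classical
  by_contra hne
  push Not at hne
  have big : ∀ v : M, v ≠ 0 → 7 ≤ Nat.card (orb ρ v) ∧ Nat.card (orb ρ v) ∣ 168 := fun v hv =>
    card_orb_cases ρ hL v (hne v hv)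
  have hsub : ∀ v : M, v ≠ 0 → orb ρ v ⊆ ({0}ᶜ : Set M) := by
    rintro v hv _ ⟨g, rfl⟩ e
    exact hv (rep_inj ρ g (by simpa using e))
  have h15 : ({0}ᶜ : Set M).ncard = 15 := by
    rw [Set.ncard_compl, Set.ncard_singleton, h16]
  obtain ⟨x, hx, h7⟩ : ∃ x : M, x ≠ 0 ∧ Nat.card (orb ρ x) = 7 := by
    by_contra hn
    push Not at hn
    obtain ⟨g, v, hgv⟩ := hnt
    have hv : v ≠ 0 := fun e => hgv (by rw [e, map_zero])
    have hle := Set.ncard_le_ncard (hsub v hv)
    rw [h15, ← Nat.card_coe_set_eq] at hle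
    obtain ⟨hv7, hvd⟩ := big v hv
    have hv7' := hn v hv
    obtain ⟨w, hw, hwo⟩ : ∃ w, w ∈ ({0}ᶜ : Set M) ∧ w ∉ orb ρ v := by
      by_contra hall
      push Not at hall
      have := Set.ncard_le_ncard (show ({0}ᶜ : Set M) ⊆ orb ρ v from hall)
      rw [h15, ← Nat.card_coe_set_eq] at this
      rw [show Nat.card (orb ρ v) = 15 by omega] at hvd
      omega
    have hd : Disjoint (orb ρ v) (orb ρ w) := Set.disjoint_left.2 fun z hz hz' =>
      hwo ((orb_eq ρ hz).symm.trans (orb_eq ρ hz') ▸ self_mem_orb ρ w)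
    have hu := Set.ncard_le_ncard (Set.union_subset (hsub v hv) (hsub w hw))
    rw [h15, Set.ncard_union_eq hd, ← Nat.card_coe_set_eq, ← Nat.card_coe_set_eq] at hu
    have := (big w hw).1
    have := hn w hw
    omega
  set O := orb ρ x with hO
  haveI : Fintype O := Fintype.ofFinite _
  have hO0 : (0 : M) ∉ O := fun h => hsub x hx h rfl
  have hOfin : O.Finite := Set.toFinite _
  have hclosed : ∀ a ∈ O, ∀ b ∈ O, a ≠ b → a + b ∈ O := by
    intro a ha b hb hab
    by_contra hc
    set c := a + b with hcdef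
    have hc0 : c ≠ 0 := fun e => hab (by
      rw [← add_zero a, ← h2 b, ← add_assoc, ← hcdef, e, zero_add])
    have hd : Disjoint O (orb ρ c) := Set.disjoint_left.2 fun z hz hz' =>
      hc (by rw [hO, ← orb_eq ρ hz, orb_eq ρ hz']; exact self_mem_orb ρ c)
    have hu := Set.ncard_le_ncard (Set.union_subset (hsub x hx) (hsub c hc0))
    rw [h15, Set.ncard_union_eq hd, ← Nat.card_coe_set_eq, ← Nat.card_coe_set_eq, h7] at hu
    obtain ⟨hc7, hcd⟩ := big c hc0
    have hs7 : 7 ∣ Nat.card (stab ρ c) := by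
      have := (stab ρ c).card_mul_index
      rw [← card_orb, hL] at this
      rcases (show Nat.card (orb ρ c) = 7 ∨ Nat.card (orb ρ c) = 8 by omega) with e | e
      · exfalso
        obtain ⟨w, hw, hwo⟩ : ∃ w, w ∈ ({0}ᶜ : Set M) ∧ w ∉ O ∪ orb ρ c := by
          by_contra hall
          push Not at hall
          have := Set.ncard_le_ncard (show ({0}ᶜ : Set M) ⊆ O ∪ orb ρ c from hall)
          rw [h15, Set.ncard_union_eq hd, ← Nat.card_coe_set_eq, ← Nat.card_coe_set_eq, h7, e] at this
          omega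
        have hdw : Disjoint (O ∪ orb ρ c) (orb ρ w) := by
          rw [Set.disjoint_left]
          rintro z (hz | hz) hz' <;> apply hwo
          · left; rw [hO, ← orb_eq ρ hz, orb_eq ρ hz']; exact self_mem_orb ρ w
          · right; rw [← orb_eq ρ hz, orb_eq ρ hz']; exact self_mem_orb ρ w
        have hw' := Set.ncard_le_ncard
          (Set.union_subset (Set.union_subset (hsub x hx) (hsub c hc0)) (hsub w hw))
        rw [h15, Set.ncard_union_eq hdw, Set.ncard_union_eq hd, ← Nat.card_coe_set_eq,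
          ← Nat.card_coe_set_eq, ← Nat.card_coe_set_eq, h7, e] at hw'
        have := (big w hw).1
        omega
      · rw [e] at this; exact ⟨3, by omega⟩
    haveI : Fact (Nat.Prime 7) := ⟨by norm_num⟩
    obtain ⟨d, hd7⟩ := exists_prime_orderOf_dvd_card' 7 hs7
    have hdc : ρ (d : L) c = c := d.2
    have hdpow : (d : L) ^ 7 = 1 := by
      have := pow_orderOf_eq_one d; rw [hd7] at this; exact congrArg Subtype.val this
    letI := repAction ρ
    let σ : Equiv.Perm O :=
      { toFun := fun o => ⟨ρ (d : L) o, orb_invariant ρ o.2 _⟩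
        invFun := fun o => ⟨ρ (d : L)⁻¹ o, orb_invariant ρ o.2 _⟩
        left_inv := fun o => Subtype.ext (rep_inv ρ _ _)
        right_inv := fun o => Subtype.ext (by
          show ρ (d : L) (ρ (d : L)⁻¹ o) = o
          rw [← rep_mul, mul_inv_cancel, rep_one]) }
    have hσ : ∀ (i : ℕ) (o : O), ((σ ^ i) o : M) = ρ ((d : L) ^ i) o := by
      intro i
      induction i with
      | zero => intro o; simp [rep_one]
      | succ i ih =>
        intro o
        rw [pow_succ, Equiv.Perm.mul_apply, ih, pow_succ, rep_mul]; rfl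
    have hσ7 : σ ^ 7 = 1 := Equiv.ext fun o => Subtype.ext (by rw [hσ, hdpow, rep_one]; rfl)
    have hall : ∀ o ∈ O, o + c ∈ O := by
      by_cases hfix : σ = 1
      · exfalso
        let F : AddSubgroup M :=
          { carrier := {v | ρ (d : L) v = v}
            zero_mem' := map_zero _
            add_mem' := fun {a b} ha hb => by
              show ρ (d : L) (a + b) = a + b; rw [map_add, ha, hb]
            neg_mem' := fun {a} ha => by show ρ (d : L) (-a) = -a; rw [map_neg, ha] }
        have h9 : insert 0 (insert c O) ⊆ (F : Set M) := by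
          rintro v (rfl | rfl | hv)
          · exact F.zero_mem
          · exact hdc
          · exact congrArg Subtype.val (Equiv.ext_iff.1 hfix ⟨v, hv⟩)
        have := Set.ncard_le_ncard h9
        rw [Set.ncard_insert_of_notMem (by
            rintro (e | e)
            · exact hc0 e.symm
            · exact hO0 e),
          Set.ncard_insert_of_notMem hc, ← Nat.card_coe_set_eq, ← Nat.card_coe_set_eq, h7] at this
        have hdv := F.card_addSubgroup_dvd_card
        rw [h16] at hdv
        have hF : F = ⊤ := F.eq_top_of_card_eq (by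
          rw [h16]
          rcases hdv with ⟨k, hk⟩
          have h9' : 9 ≤ Nat.card F := this
          rcases Nat.lt_or_ge k 2 with hk2 | hk2
          · interval_cases k <;> omega
          · nlinarith)
        obtain ⟨g, v, hgv⟩ := hnt
        have hd1 : (d : L) ≠ 1 := fun e => by
          have : d = 1 := Subtype.ext e
          rw [this, orderOf_one] at hd7; omega
        exact hgv (trivial_of_elt ρ hd1 (fun w => show w ∈ F by rw [hF]; trivial) g v)
      · intro o ho
        have hord : orderOf σ = 7 := orderOf_eq_prime hσ7 hfix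
        have hcyc : σ.IsCycle :=
          Equiv.Perm.isCycle_of_prime_order (by rw [hord]; norm_num) (by
            refine (Finset.card_le_univ _).trans_lt ?_
            rw [← Nat.card_eq_fintype_card, h7, hord]; norm_num)
        have hsupp : ∀ p : O, σ p ≠ p := by
          intro p hp
          have h1 : p ∉ σ.support := Equiv.Perm.notMem_support.2 hp
          have h2 := Finset.card_lt_univ_of_notMem h1
          rw [← Nat.card_eq_fintype_card, h7, ← hcyc.orderOf, hord] at h2
          omega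
        obtain ⟨i, hi⟩ := hcyc.exists_pow_eq (hsupp ⟨a, ha⟩) (hsupp ⟨o, ho⟩)
        have e := congrArg Subtype.val hi
        rw [hσ] at e
        have hdi : ρ ((d : L) ^ i) c = c := by
          have := (d ^ i).2
          rw [SubmonoidClass.coe_pow] at this
          exact this
        have e2 : o + c = ρ ((d : L) ^ i) b := by
          calc o + c = ρ ((d : L) ^ i) a + ρ ((d : L) ^ i) c := by rw [hdi, ← show ρ ((d : L) ^ i) a = o from e]
            _ = ρ ((d : L) ^ i) b := by
              rw [← map_add, show a + c = b by rw [hcdef, ← add_assoc, h2, zero_add]]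
        rw [e2]
        exact orb_invariant ρ hb _
    let τ : Equiv.Perm O :=
      { toFun := fun o => ⟨o + c, hall o o.2⟩
        invFun := fun o => ⟨o + c, hall o o.2⟩
        left_inv := fun o => Subtype.ext (by simp [add_assoc, h2])
        right_inv := fun o => Subtype.ext (by simp [add_assoc, h2]) }
    haveI : Fact (Nat.Prime 2) := ⟨Nat.prime_two⟩
    obtain ⟨o, ho⟩ := Equiv.Perm.exists_fixed_point_of_prime (p := 2) (n := 1)
      (by rw [← Nat.card_eq_fintype_card, h7]; norm_num)
      (σ := τ) (Equiv.ext fun o => Subtype.ext (by simp [pow_succ, τ, add_assoc, h2]))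
    exact hc0 (by simpa [τ] using congrArg Subtype.val ho)
  refine hno.false ⟨{ carrier := insert 0 O
                      zero_mem' := Set.mem_insert _ _
                      add_mem' := ?_
                      neg_mem' := ?_ }, ?_, ?_⟩
  · rintro a b (rfl | ha) (rfl | hb)
    · left; exact add_zero 0
    · right; simpa using hb
    · right; simpa using ha
    · by_cases e : a = b
      · left; rw [e, h2]
      · right; exact hclosed a ha b hb e
  · intro a ha; rw [neg_eq_of_add_eq_zero_left (h2 a)]; exact ha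
  · rintro g v (rfl | hv)
    · left; exact map_zero _
    · right; exact orb_invariant ρ hv g
  · show Nat.card ↥(insert (0 : M) O) = 8
    rw [Nat.card_coe_set_eq, Set.ncard_insert_of_notMem hO0, ← Nat.card_coe_set_eq, h7]

end Cfsg.Agent.RadicalLThree
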