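import Cfsg.Agent.RadicalLThree.Pair
import Cfsg.Agent.RadicalLThree.Module

/-!
# Lifts of an involution and of a rotating element of order three
-/

set_option autoImplicit false
set_option linter.all false

namespace Cfsg.Agent.RadicalLThree

universe u v w

variable {L : Type v} [Group L] [Finite L] [IsSimpleGroup L] {N : Type w} [AddCommGroup N]
  {ρ : Rep L N} (d : Nat3 ρ)

include d

lemma eq_of_rep {a b : L} (h : ∀ v, d.e (ρ a v) = d.e (ρ b v)) : a = b := by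
  by_contra hab
  have h1 : ∀ v, ρ (b⁻¹ * a) v = v := fun v => by
    rw [rep_mul, d.e.injective (h v), rep_inv]
  have hne : b⁻¹ * a ≠ 1 := fun e => hab (inv_mul_eq_one.1 e).symm
  obtain ⟨g, hg⟩ := d.full mu1 mu_rel.2.2.2.2.2.2.1
  have htr : ∀ v, ρ g v = v := trivial_of_elt ρ hne h1 g
  have := hg (d.e.symm ![1, 0, 0])
  rw [htr, d.e.apply_symm_apply] at this
  exact absurd this (by decide)

/-- Elements of the simple group inducing the three matrices. -/
lemma exists_in_quotient :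
    ∃ a b : L, a * a = 1 ∧ a ≠ 1 ∧ b * b * b = 1 ∧
      a * (b * a * b⁻¹) * (b * (b * a * b⁻¹) * b⁻¹) = 1 ∧
      (∀ v, d.e (ρ a v) = mu1.mulVec (d.e v)) ∧ (∀ v, d.e (ρ b v) = mur.mulVec (d.e v)) := by
  obtain ⟨a, ha⟩ := d.full mu1 mu_rel.2.2.2.2.2.2.1
  obtain ⟨b, hb⟩ := d.full mur mu_rel.2.2.2.2.2.2.2.2.1
  obtain ⟨a2, ha2⟩ := d.full mu2 mu_rel.2.2.2.2.2.2.2.1
  have e2 : a2 * b = b * a := eq_of_rep d fun v => by
    rw [rep_mul, rep_mul, ha2, hb, hb, ha, Matrix.mulVec_mulVec, Matrix.mulVec_mulVec,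
      mu_rel.2.2.2.2.1]
  have e3 : a * a2 * b = b * a2 := eq_of_rep d fun v => by
    rw [rep_mul, rep_mul, rep_mul, ha, ha2, hb, hb, ha2]
    simp only [Matrix.mulVec_mulVec]
    rw [← mul_assoc, mu_rel.2.2.2.2.2.1]
  have ea2 : a2 = b * a * b⁻¹ := by rw [← e2, mul_inv_cancel_right]
  have ea3 : b * a2 * b⁻¹ = a * a2 := by rw [← e3, mul_inv_cancel_right]
  have haa : a * a = 1 := eq_of_rep d fun v => by
    rw [rep_mul, ha, ha, Matrix.mulVec_mulVec, mu_rel.1, Matrix.one_mulVec, rep_one]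
  have h22 : a2 * a2 = 1 := eq_of_rep d fun v => by
    rw [rep_mul, ha2, ha2, Matrix.mulVec_mulVec, mu_rel.2.1, Matrix.one_mulVec, rep_one]
  have hcm : a * a2 = a2 * a := eq_of_rep d fun v => by
    rw [rep_mul, rep_mul, ha, ha2, ha2, ha, Matrix.mulVec_mulVec, Matrix.mulVec_mulVec,
      mu_rel.2.2.1]
  have hbbb : b * b * b = 1 := eq_of_rep d fun v => by
    rw [rep_mul, rep_mul, hb, hb, hb]
    simp only [Matrix.mulVec_mulVec]
    rw [← mul_assoc, mu_rel.2.2.2.1, Matrix.one_mulVec, rep_one]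
  refine ⟨a, b, haa, ?_, hbbb, ?_, ha, hb⟩
  · intro e
    have := ha (d.e.symm ![1, 0, 0])
    rw [e, rep_one, d.e.apply_symm_apply] at this
    exact absurd this (by decide)
  · rw [← ea2, ea3]
    calc a * a2 * (a * a2) = a * a2 * (a2 * a) := by rw [← hcm]
      _ = a * (a2 * a2) * a := by group
      _ = 1 := by rw [h22, mul_one, haa]

variable {Y : Type u} [Group Y] [Finite Y] {π : Y →* L}

omit [Finite Y] in
/-- An involution of the quotient and a lift of order three. -/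
lemma exists_lifts (hπ : Function.Surjective π) (hQ : IsPGroup 2 π.ker) :
    ∃ h r : Y, r * r * r = 1 ∧ π (h * h) = 1 ∧ π h ≠ 1 ∧
      π (h * (r * h * r⁻¹) * (r * (r * h * r⁻¹) * r⁻¹)) = 1 ∧
      (∀ v, d.e (ρ (π h) v) = mu1.mulVec (d.e v)) ∧
      (∀ v, d.e (ρ (π r) v) = mur.mulVec (d.e v)) := by
  obtain ⟨a, b, haa, ha1, hb3, hrel, ha, hb⟩ := exists_in_quotient d
  obtain ⟨h, rfl⟩ := hπ a
  obtain ⟨r0, rfl⟩ := hπ b
  obtain ⟨k, hk⟩ := hQ ⟨r0 * r0 * r0, MonoidHom.mem_ker.2 (by rw [map_mul, map_mul, hb3])⟩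
  have hk' : (r0 * r0 * r0) ^ 2 ^ k = 1 := congrArg Subtype.val hk
  have hr3 : r0 * r0 * r0 = r0 ^ 3 := by simp [pow_succ]
  obtain ⟨t, ht⟩ : ∃ t, 4 ^ k = 3 * t + 1 := by
    clear hk hk'
    induction k with
    | zero => exact ⟨0, rfl⟩
    | succ j ih => obtain ⟨t, ht⟩ := ih; exact ⟨4 * t + 1, by rw [pow_succ, ht]; ring⟩
  have hπr : π (r0 ^ 4 ^ k) = π r0 := by
    have : (π r0) ^ 3 = 1 := by simpa [pow_succ] using hb3
    rw [map_pow, ht, pow_succ, pow_mul, this, one_pow, one_mul]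
  refine ⟨h, r0 ^ 4 ^ k, ?_, by rw [map_mul, haa], ha1, ?_, ha, by rw [hπr]; exact hb⟩
  · rw [show r0 ^ 4 ^ k * r0 ^ 4 ^ k * r0 ^ 4 ^ k = (r0 ^ 4 ^ k) ^ 3 by simp [pow_succ], ← pow_mul,
      mul_comm, pow_mul, ← hr3, show (4 : ℕ) = 2 * 2 by rfl, mul_pow, pow_mul, hk', one_pow]
  · simpa only [map_mul, map_inv, hπr] using hrel

omit d [Finite L] [IsSimpleGroup L] [Finite Y] in
/-- Adjusting the lift so that the product of the rotations lies in a subgroup of index two. -/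
lemma exists_triple (R : Subgroup Y) [R.Normal] {h r : Y} (hr : r * r * r = 1) (hh : h * h ∈ R)
    (hidx : ∀ x, π x = 1 → ∀ y, π y = 1 → x ∉ R → y ∉ R → x * y ∈ R)
    (hx : π (h * (r * h * r⁻¹) * (r * (r * h * r⁻¹) * r⁻¹)) = 1) :
    ∃ h', π h' = π h ∧ Triple R h' r := by
  set x := h * (r * h * r⁻¹) * (r * (r * h * r⁻¹) * r⁻¹) with hxdef
  by_cases hxR : x ∈ R
  · exact ⟨h, rfl, hr, hh, hxR⟩
  let p : Y →* Y ⧸ R := QuotientGroup.mk' R
  have p1 : ∀ y, p y = 1 ↔ y ∈ R := fun y => QuotientGroup.eq_one_iff y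
  have hxx : p x * p x = 1 := by rw [← map_mul, p1]; exact hidx x hx x hx hxR hxR
  have hcen : ∀ g, p g * p x = p x * p g := by
    intro g
    have h1 : g * x * g⁻¹ * x⁻¹ ∈ R := by
      refine hidx _ (by rw [map_mul, map_mul, hx, mul_one, map_inv, mul_inv_cancel]) _
        (by rw [map_inv, hx, inv_one]) (fun hm => hxR ?_) (fun hm => hxR (inv_mem_iff.1 hm))
      have := (inferInstance : R.Normal).conj_mem _ hm g⁻¹
      rwa [inv_inv, show g⁻¹ * (g * x * g⁻¹) * g = x by group] at this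
    rw [← p1, map_mul, map_mul, map_mul, map_inv, map_inv] at h1
    exact mul_inv_eq_iff_eq_mul.1 (mul_inv_eq_one.1 h1)
  refine ⟨h * x, by rw [map_mul, hx, mul_one], hr, ?_, ?_⟩
  · rw [← p1, map_mul, map_mul]
    calc p h * p x * (p h * p x) = p h * (p x * p h) * p x := by group
      _ = p h * p h * (p x * p x) := by rw [← hcen]; group
      _ = 1 := by rw [hxx, mul_one, ← map_mul, p1]; exact hh
  · rw [← p1]
    simp only [map_mul, map_inv]
    have c1 : p r * (p h * p x) * (p r)⁻¹ = p r * p h * (p r)⁻¹ * p x := by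
      calc p r * (p h * p x) * (p r)⁻¹ = p r * p h * (p x * (p r)⁻¹) := by group
        _ = p r * p h * ((p r)⁻¹ * p x) := by rw [← map_inv, hcen]
        _ = p r * p h * (p r)⁻¹ * p x := by group
    have c2 : ∀ y : Y ⧸ R, p r * (y * p x) * (p r)⁻¹ = p r * y * (p r)⁻¹ * p x := by
      intro y
      calc p r * (y * p x) * (p r)⁻¹ = p r * y * (p x * (p r)⁻¹) := by group
        _ = p r * y * ((p r)⁻¹ * p x) := by rw [← map_inv, hcen]
        _ = p r * y * (p r)⁻¹ * p x := by group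
    have c3 : ∀ g, p x * p g = p g * p x := fun g => (hcen g).symm
    rw [c1, c2]
    have e : p h * (p r * p h * (p r)⁻¹) * (p r * (p r * p h * (p r)⁻¹) * (p r)⁻¹) = p x := by
      simp only [hxdef, map_mul, map_inv]
    have s : ∀ g, p x * p g * p x = p g := fun g => by rw [c3, mul_assoc, hxx, mul_one]
    have := s (r * h * r⁻¹)
    simp only [map_mul, map_inv] at this
    calc p h * p x * (p r * p h * (p r)⁻¹ * p x) *
          (p r * (p r * p h * (p r)⁻¹) * (p r)⁻¹ * p x) =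
        p h * (p x * (p r * p h * (p r)⁻¹) * p x) *
          (p r * (p r * p h * (p r)⁻¹) * (p r)⁻¹) * p x := by group
      _ = 1 := by rw [this, e, hxx]

end Cfsg.Agent.RadicalLThree
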