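import Cfsg.Agent.RadicalLThree.Module

/-!
# Modules of order sixteen with a fixed vector and no complement
-/

set_option autoImplicit false
set_option linter.all false

namespace Cfsg.Agent.RadicalLThree

variable {L : Type*} [Group L] {M : Type*} [AddCommGroup M] (ρ : Rep L M) (z : M)
  (hfix : ∀ g, ρ g z = z)

/-- The action modulo a fixed vector. -/
def quotRep : Rep L (M ⧸ AddSubgroup.zmultiples z) where
  toFun g := QuotientAddGroup.map _ _ (ρ g : M →+ M) (by
    rw [AddSubgroup.zmultiples_le]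
    show ρ g z ∈ AddSubgroup.zmultiples z
    rw [hfix g]; exact AddSubgroup.mem_zmultiples z)
  map_one' := by
    apply QuotientAddGroup.addMonoidHom_ext
    ext v
    exact congrArg (QuotientAddGroup.mk' (AddSubgroup.zmultiples z)) (rep_one ρ v)
  map_mul' g h := by
    apply QuotientAddGroup.addMonoidHom_ext
    ext v
    exact congrArg (QuotientAddGroup.mk' (AddSubgroup.zmultiples z)) (rep_mul ρ g h v)

lemma quotRep_mk (g : L) (v : M) :
    quotRep ρ z hfix g (QuotientAddGroup.mk' _ v) = QuotientAddGroup.mk' _ (ρ g v) := rfl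

lemma mem_zmultiples_iff_of_two (h2 : ∀ v : M, v + v = 0) {z v : M} :
    v ∈ AddSubgroup.zmultiples z ↔ v = 0 ∨ v = z := by
  refine ⟨fun h => ?_, by rintro (rfl | rfl) <;> simp [AddSubgroup.mem_zmultiples]⟩
  let D : AddSubgroup M :=
    { carrier := {w | w = 0 ∨ w = z}
      zero_mem' := Or.inl rfl
      add_mem' := by rintro a b (rfl | rfl) (rfl | rfl) <;> simp [h2]
      neg_mem' := by rintro a (rfl | rfl) <;> simp [neg_eq_of_add_eq_zero_left (h2 _)] }
  exact AddSubgroup.zmultiples_le.2 (show z ∈ D from Or.inr rfl) h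

variable [Finite L] [IsSimpleGroup L] (hL : Nat.card L = 168) [Finite M]
  (h2 : ∀ v : M, v + v = 0) (h16 : Nat.card M = 16) (hnt : ∃ g v, ρ g v ≠ v) (hz : z ≠ 0)

include hL h2 h16 hnt hz

theorem quot_nat : Nonempty (Nat3 (quotRep ρ z hfix)) := by
  have hc : Nat.card (AddSubgroup.zmultiples z) = 2 := by
    rw [Nat.card_zmultiples]
    exact addOrderOf_eq_prime (by rw [two_nsmul]; exact h2 z) hz
  refine exists_nat3 hL _ ?_ ?_ ?_
  · have := AddSubgroup.card_eq_card_quotient_mul_card_addSubgroup (AddSubgroup.zmultiples z)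
    rw [h16, hc] at this; omega
  · rintro ⟨v⟩
    show QuotientAddGroup.mk' _ v + QuotientAddGroup.mk' _ v = 0
    rw [← map_add, h2, map_zero]
  · by_contra h
    push Not at h
    obtain ⟨g, v, hgv⟩ := hnt
    refine hgv (trivial_of_series ρ hL (D := AddSubgroup.zmultiples z) (fun g v hv => ?_) (fun g v => ?_) g v)
    · rcases (mem_zmultiples_iff_of_two h2).1 hv with rfl | rfl
      · exact map_zero _
      · exact hfix g
    · rw [← QuotientAddGroup.eq_zero_iff]
      show QuotientAddGroup.mk' (AddSubgroup.zmultiples z) (ρ g v - v) = 0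
      rw [map_sub, ← quotRep_mk ρ z hfix, h, sub_self]

include hfix in
theorem exists_flip (hno : IsEmpty (Hyp ρ)) {x : M} (hx0 : x ≠ 0) (hxz : x ≠ z) :
    ∃ g, ρ g x = x + z := by
  obtain ⟨d⟩ := quot_nat ρ z hfix hL h2 h16 hnt hz
  set p := QuotientAddGroup.mk' (AddSubgroup.zmultiples z) with hp
  have pz : p z = 0 := (QuotientAddGroup.eq_zero_iff z).2 (AddSubgroup.mem_zmultiples z)
  have pk : ∀ v, p v = 0 → v = 0 ∨ v = z := fun v hv =>
    (mem_zmultiples_iff_of_two h2).1 ((QuotientAddGroup.eq_zero_iff v).1 hv)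
  have pe : ∀ u v, p u = p v → u = v ∨ u = v + z := by
    intro u v e
    rcases pk (u + v) (by rw [map_add, e, ← map_add, h2, map_zero]) with h | h
    · left; rw [← add_zero u, ← h2 v, ← add_assoc, h, zero_add]
    · right; rw [← add_zero u, ← h2 v, ← add_assoc, h, add_comm]
  by_contra hn
  push Not at hn
  set O := orb ρ x with hO
  have hOz : ∀ v ∈ O, v + z ∉ O := by
    rintro _ ⟨g, rfl⟩ ⟨k, hk⟩
    apply hn (g⁻¹ * k)
    rw [rep_mul, show ρ k x = ρ g x + z from hk, map_add, rep_inv, hfix]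
  have hx' : p x ≠ 0 := fun e => (pk x e).elim hx0 hxz
  have hO0 : ∀ v ∈ O, p v ≠ 0 := by
    rintro _ ⟨g, rfl⟩ e
    rw [← quotRep_mk ρ z hfix] at e
    exact hx' (rep_inj (quotRep ρ z hfix) g (by rw [e, map_zero]))
  have hsurj : ∀ w : M ⧸ AddSubgroup.zmultiples z, w ≠ 0 → ∃ v ∈ O, p v = w := by
    intro w hw
    obtain ⟨g, hg⟩ := d.transitive hx' hw
    exact ⟨ρ g x, ⟨g, rfl⟩, by rw [← hg, quotRep_mk]⟩
  have hinjO : ∀ u ∈ O, ∀ v ∈ O, p u = p v → u = v := by
    intro u hu v hv e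
    rcases pe u v e with h | h
    · exact h
    · exact absurd (h ▸ hu) (hOz v hv)
  have hmid : ∀ a ∈ O, ∀ b ∈ O, a ≠ b → a + b ∈ O ∨ a + b + z ∈ O := by
    intro a ha b hb hab
    obtain ⟨v, hv, e⟩ := hsurj (p (a + b)) (fun e => hab (hinjO a ha b hb (by
      rw [map_add] at e
      rw [eq_neg_of_add_eq_zero_left e]; exact neg_eq_of_add_eq_zero_left (d.two_zero _))))
    rcases pe v (a + b) e with rfl | rfl
    · exact .inl hv
    · exact .inr hv
  have hconst : ∀ a ∈ O, ∀ b ∈ O, a ≠ b → a + b ∈ O → ∀ u ∈ O, ∀ v ∈ O, u ≠ v → u + v ∈ O := by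
    intro a ha b hb hab hs u hu v hv huv
    obtain ⟨g, e1, e2⟩ := d.pair_transitive (hO0 a ha) (hO0 b hb) (fun e => hab (hinjO a ha b hb e))
      (hO0 u hu) (hO0 v hv) (fun e => huv (hinjO u hu v hv e))
    rw [quotRep_mk] at e1 e2
    rw [← hinjO _ (orb_invariant ρ ha g) u hu e1, ← hinjO _ (orb_invariant ρ hb g) v hv e2, ← map_add]
    exact orb_invariant ρ hs g
  have key : ∀ (P : Set M), (∀ g, ∀ v ∈ P, ρ g v ∈ P) → (0 : M) ∉ P → P.ncard = 7 →
      (∀ a ∈ P, ∀ b ∈ P, a ≠ b → a + b ∈ P) → False := by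
    intro P hPinv hP0 hP7 hcl
    refine hno.false ⟨{ carrier := insert 0 P
                        zero_mem' := Set.mem_insert _ _
                        add_mem' := ?_
                        neg_mem' := ?_ }, ?_, ?_⟩
    · rintro a b (rfl | ha) (rfl | hb)
      · left; exact add_zero 0
      · right; simpa using hb
      · right; simpa using ha
      · by_cases e : a = b
        · left; rw [e, h2]
        · right; exact hcl a ha b hb e
    · intro a ha; rw [neg_eq_of_add_eq_zero_left (h2 a)]; exact ha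
    · rintro g v (rfl | hv)
      · left; exact map_zero _
      · right; exact hPinv g v hv
    · show Nat.card ↥(insert (0 : M) P) = 8
      rw [Nat.card_coe_set_eq, Set.ncard_insert_of_notMem hP0, hP7]
  have hcard : O.ncard = 7 := by
    have hb : Function.Bijective (fun v : O => (⟨p v, hO0 v v.2⟩ : {w // w ≠ (0 : M ⧸ AddSubgroup.zmultiples z)})) :=
      ⟨fun u v e => Subtype.ext (hinjO u u.2 v v.2 (congrArg Subtype.val e)),
        fun w => by obtain ⟨v, hv, e⟩ := hsurj w.1 w.2; exact ⟨⟨v, hv⟩, Subtype.ext e⟩⟩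
    rw [← Nat.card_coe_set_eq, Nat.card_congr (Equiv.ofBijective _ hb)]
    rw [Nat.card_congr (Equiv.subtypeEquiv d.e.toEquiv (p := fun w => w ≠ 0) (q := fun v : V3 => v ≠ 0) (fun a => by simp))]
    rw [Nat.card_eq_fintype_card]; rfl
  by_cases hall : ∀ a ∈ O, ∀ b ∈ O, a ≠ b → a + b ∈ O
  · exact key O (fun g v hv => orb_invariant ρ hv g) (fun h => hO0 0 h (map_zero _)) hcard hall
  · have hne : ∀ a ∈ O, ∀ b ∈ O, a ≠ b → a + b + z ∈ O := fun a ha b hb hab =>
      (hmid a ha b hb hab).resolve_left fun h => hall (hconst a ha b hb hab h)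
    refine key ((· + z) '' O) ?_ ?_ ?_ ?_
    · rintro g _ ⟨v, hv, rfl⟩
      exact ⟨ρ g v, orb_invariant ρ hv g, by simp [map_add, hfix]⟩
    · rintro ⟨v, hv, e⟩
      exact hO0 v hv (by rw [show v = z by rw [← neg_eq_of_add_eq_zero_left e, neg_eq_of_add_eq_zero_left (h2 z)], pz])
    · rw [Set.ncard_image_of_injective _ (add_left_injective z), hcard]
    · rintro _ ⟨a, ha, rfl⟩ _ ⟨b, hb, rfl⟩ hab
      refine ⟨a + b + z, hne a ha b hb (fun e => hab (by rw [e])), ?_⟩
      show a + b + z + z = a + z + (b + z)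
      abel

end Cfsg.Agent.RadicalLThree
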