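import Cfsg.Agent.RadicalLThree.Module

/-!
# Equivariant functions on the natural module
-/

set_option autoImplicit false
set_option linter.all false

namespace Cfsg.Agent.RadicalLThree

variable {L : Type*} [Group L] [Finite L] [IsSimpleGroup L] (hL : Nat.card L = 168)
variable {N A : Type*} [AddCommGroup N] [AddCommGroup A] [Finite N] [Finite A]
variable {ρ : Rep L N} {σ : Rep L A} (d : Nat3 ρ)

/-- A module without fixed points, of order at most sixteen. -/
structure Free (σ : Rep L A) : Prop where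
  exp2 : ∀ a : A, a + a = 0
  le : Nat.card A ≤ 16
  nt : ∃ g a, σ g a ≠ a
  nofix : ∀ a, (∀ g, σ g a = a) → a = 0

include d

omit [Finite L] [IsSimpleGroup L] [Finite N] [Finite A] in
lemma card_nat3 : Nat.card N = 8 := by
  rw [Nat.card_congr d.e.toEquiv]; simp

omit [Finite L] [IsSimpleGroup L] [Finite N] [Finite A] in
/-- A constant quadratic function vanishes. -/
theorem eq_zero_of_trivial (h2 : ∀ a : A, a + a = 0) (ψ : N → A) (h0 : ψ 0 = 0)
    (hinv : ∀ g x, ψ (ρ g x) = ψ x)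
    (hquad : ∀ x y z, ψ (x + y + z) + ψ x + ψ y + ψ z = ψ (x + y) + ψ (x + z) + ψ (y + z)) :
    ∀ x, ψ x = 0 := by
  set a := d.e.symm ![1, 0, 0] with ha
  set b := d.e.symm ![0, 1, 0] with hb
  set c := d.e.symm ![0, 0, 1] with hc
  have ne : ∀ v : V3, v ≠ 0 → d.e.symm v ≠ 0 := fun v hv e => hv (by simpa using e)
  have hs : ∀ x, x ≠ 0 → ψ x = ψ a := fun x hx => by
    obtain ⟨g, rfl⟩ := d.transitive (ne ![1, 0, 0] (by decide)) hx
    exact hinv g a
  have h := hquad a b c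
  rw [hs b (ne _ (by decide)), hs c (ne _ (by decide)),
    hs (a + b + c) (by rw [ha, hb, hc, ← map_add, ← map_add]; exact ne _ (by decide)),
    hs (a + b) (by rw [ha, hb, ← map_add]; exact ne _ (by decide)),
    hs (a + c) (by rw [ha, hc, ← map_add]; exact ne _ (by decide)),
    hs (b + c) (by rw [hb, hc, ← map_add]; exact ne _ (by decide)),
    ] at h
  simp only [h2, zero_add] at h
  intro x
  by_cases hx : x = 0
  · rw [hx, h0]
  · rw [hs x hx]; exact h.symm

omit [Finite L] [IsSimpleGroup L] [Finite N] [Finite A] in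
lemma ne_zero_of_equivariant {ψ : N → A} (h0 : ψ 0 = 0) (heq : ∀ g x, ψ (ρ g x) = σ g (ψ x))
    (hne : ∃ x, ψ x ≠ 0) {x : N} (hx : x ≠ 0) : ψ x ≠ 0 := by
  obtain ⟨y, hy⟩ := hne
  intro e
  obtain ⟨g, rfl⟩ := d.transitive hx (fun e' : y = 0 => hy (e' ▸ h0))
  exact hy (by rw [heq, e, map_zero])

omit [Finite L] [IsSimpleGroup L] [Finite N] [Finite A] in
lemma injective_of_free (hF : Free σ) {ψ : N → A} (h0 : ψ 0 = 0)
    (heq : ∀ g x, ψ (ρ g x) = σ g (ψ x)) (hne : ∃ x, ψ x ≠ 0) : Function.Injective ψ := by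
  intro x y e
  by_contra hxy
  have nz := fun {v} => ne_zero_of_equivariant d h0 heq hne (x := v)
  by_cases hx : x = 0
  · exact nz (fun e' : y = 0 => hxy (hx.trans e'.symm)) (by rw [← e, hx, h0])
  by_cases hy : y = 0
  · exact nz hx (by rw [e, hy, h0])
  have hall : ∀ u v, u ≠ 0 → v ≠ 0 → ψ u = ψ v := by
    intro u v hu hv
    by_cases huv : u = v
    · rw [huv]
    obtain ⟨g, rfl, rfl⟩ := d.pair_transitive hx hy hxy hu hv huv
    rw [heq, heq, e]
  refine nz hx (hF.nofix _ fun g => ?_)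
  rw [← heq]
  exact hall _ _ (fun h => hx (rep_inj ρ g (by simpa using h))) hx

include hL

/-- The image lies in every invariant subgroup of order eight. -/
lemma mem_hyp (hF : Free σ) (h16 : Nat.card A = 16) (H : Hyp σ) {ψ : N → A} (h0 : ψ 0 = 0)
    (heq : ∀ g x, ψ (ρ g x) = σ g (ψ x)) (x : N) : ψ x ∈ H.D := by
  by_contra hn
  have hx : x ≠ 0 := fun e => hn (by rw [e, h0]; exact H.D.zero_mem)
  rcases H.outside hL σ hF.exp2 h16 hn with ⟨c, hc, hfix⟩ | ⟨h8, -⟩
  · exact hc (by rw [hF.nofix c hfix]; exact H.D.zero_mem)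
  · have hsub : orb σ (ψ x) ⊆ ψ '' ({0}ᶜ : Set N) := by
      rintro _ ⟨g, rfl⟩
      exact ⟨ρ g x, fun e => hx (rep_inj ρ g (by simpa using e)), heq g x⟩
    have h1 := (Set.ncard_le_ncard hsub).trans (Set.ncard_image_le (Set.toFinite _))
    rw [Set.ncard_compl, Set.ncard_singleton, card_nat3 d, ← Nat.card_coe_set_eq, h8] at h1
    omega

/-- The images of two non-zero equivariant functions agree and are subgroups. -/
lemma exists_image (hF : Free σ) :
    ∃ D : AddSubgroup A, Nat.card D = 8 ∧ ∀ (ψ : N → A), ψ 0 = 0 →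
      (∀ g x, ψ (ρ g x) = σ g (ψ x)) → ∀ x, ψ x ∈ D := by
  rcases card_cases hL σ hF.exp2 hF.nt hF.le with h | h
  · exact ⟨⊤, by rw [AddSubgroup.card_top, h], fun _ _ _ _ => trivial⟩
  · rcases isEmpty_or_nonempty (Hyp σ) with he | ⟨⟨H⟩⟩
    · obtain ⟨z, hz, hfix⟩ := exists_fixed_of_no_hyp hL σ hF.exp2 h hF.nt he
      exact absurd (hF.nofix z hfix) hz
    · exact ⟨H.D, H.card, fun ψ h0 heq => mem_hyp hL d hF h H h0 heq⟩

/-- An equivariant function into a module without fixed points is zero or an embedding. -/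
theorem linear_of_free (hF : Free σ) (ψ : N → A) (h0 : ψ 0 = 0)
    (heq : ∀ g x, ψ (ρ g x) = σ g (ψ x)) :
    (∀ x, ψ x = 0) ∨ ((∀ x y, ψ (x + y) = ψ x + ψ y) ∧ Function.Injective ψ) := by
  by_cases hne : ∃ x, ψ x ≠ 0
  swap
  · exact .inl fun x => of_not_not fun h => hne ⟨x, h⟩
  have hinj := injective_of_free d hF h0 heq hne
  refine .inr ⟨fun x y => ?_, hinj⟩
  obtain ⟨D, hD, hmem⟩ := exists_image hL d hF
  have hsurj : ∀ a ∈ D, ∃ z, ψ z = a := by
    intro a ha
    have hb : Function.Bijective (fun z : N => (⟨ψ z, hmem ψ h0 heq z⟩ : D)) :=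
      Function.Injective.bijective_of_nat_card_le (fun u v e => hinj (congrArg Subtype.val e))
        (by rw [card_nat3 d, hD])
    obtain ⟨z, hz⟩ := hb.2 ⟨a, ha⟩
    exact ⟨z, congrArg Subtype.val hz⟩
  by_cases hx : x = 0
  · rw [hx, zero_add, h0, zero_add]
  by_cases hy : y = 0
  · rw [hy, add_zero, h0, add_zero]
  by_cases hxy : x = y
  · rw [hxy, d.two_zero, h0, hF.exp2]
  obtain ⟨z, hz⟩ := hsurj _ (D.add_mem (hmem ψ h0 heq x) (hmem ψ h0 heq y))
  rcases d.fixed_two (z := z) hx hy hxy (fun g a b => hinj (by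
      rw [heq, hz, map_add, ← heq, ← heq, a, b])) with rfl | rfl | rfl | rfl
  · exact absurd (hinj (show ψ x = ψ y by
      rw [← add_zero (ψ x), ← hF.exp2 (ψ y), ← add_assoc, ← hz, h0, zero_add])) hxy
  · exact absurd (hinj (show ψ y = ψ 0 by rw [h0]; exact left_eq_add.1 hz)) hy
  · exact absurd (hinj (show ψ x = ψ 0 by rw [h0]; exact right_eq_add.1 hz)) hx
  · exact hz

/-- An equivariant function is a multiple of a given non-zero one. -/
theorem eq_of_free (hF : Free σ) (ψ χ : N → A) (h0 : ψ 0 = 0)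
    (heq : ∀ g x, ψ (ρ g x) = σ g (ψ x)) (hne : ∃ x, ψ x ≠ 0) (h0' : χ 0 = 0)
    (heq' : ∀ g x, χ (ρ g x) = σ g (χ x)) : (∀ x, χ x = 0) ∨ ∀ x, χ x = ψ x := by
  by_cases hne' : ∃ x, χ x ≠ 0
  swap
  · exact .inl fun x => of_not_not fun h => hne' ⟨x, h⟩
  right
  have hinj := injective_of_free d hF h0 heq hne
  obtain ⟨D, hD, hmem⟩ := exists_image hL d hF
  have hb : Function.Bijective (fun z : N => (⟨ψ z, hmem ψ h0 heq z⟩ : D)) :=
    Function.Injective.bijective_of_nat_card_le (fun u v e => hinj (congrArg Subtype.val e))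
      (by rw [card_nat3 d, hD])
  intro x
  by_cases hx : x = 0
  · rw [hx, h0, h0']
  obtain ⟨z, hz⟩ := hb.2 ⟨χ x, hmem χ h0' heq' x⟩
  have hz' : ψ z = χ x := congrArg Subtype.val hz
  rcases d.fixed_one (n := z) hx (fun g hg => .inl (hinj (by rw [heq, hz', ← heq', hg]))) with e | e
  · exact absurd (by rw [← hz', e, h0]) (ne_zero_of_equivariant d h0' heq' hne' hx)
  · rw [← hz', e]

end Cfsg.Agent.RadicalLThree
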