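import Cfsg.Agent.RadicalLThree.Contra

/-!
# A two-group with a central elementary subgroup generated by its squares, as modules
-/

set_option autoImplicit false
set_option linter.all false

namespace Cfsg.Agent.RadicalLThree

universe u v

open scoped commutatorElement

/-- The data of a layer. -/
structure Cfg (L : Type v) [Group L] (Y : Type u) [Group Y] where
  π : Y →* L
  hπ : Function.Surjective π
  hQ : IsPGroup 2 π.ker
  A : Subgroup Y
  An : A.Normal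
  le : A ≤ π.ker
  sq : ∀ q ∈ π.ker, q * q ∈ A
  gen : A ≤ Subgroup.closure {x | ∃ q ∈ π.ker, x = q * q}
  A2 : ∀ a ∈ A, a * a = 1
  Ac : ∀ a ∈ A, ∀ q ∈ π.ker, a * q = q * a
  nt : ∃ g, ∃ q ∈ π.ker, q⁻¹ * (g * q * g⁻¹) ∉ A

attribute [instance] Cfg.An

variable {L : Type v} [Group L] {Y : Type u} [Group Y] (C : Cfg L Y)

instance Cfg.commA : IsMulCommutative C.A :=
  ⟨⟨fun a b => Subtype.ext (C.Ac a a.2 b (C.le b.2))⟩⟩

/-- The kernel of the projection. -/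
abbrev Cfg.Q : Subgroup Y := C.π.ker

lemma quot_sq (x : C.Q ⧸ C.A.subgroupOf C.Q) : x * x = 1 :=
  QuotientGroup.induction_on x fun w => (QuotientGroup.eq_one_iff _).2 (C.sq w w.2)

instance Cfg.quotComm : CommGroup (C.Q ⧸ C.A.subgroupOf C.Q) :=
  { (inferInstance : Group (C.Q ⧸ C.A.subgroupOf C.Q)) with
    mul_comm := fun a b => by
      have hi : ∀ c : C.Q ⧸ C.A.subgroupOf C.Q, c⁻¹ = c := fun c =>
        inv_eq_of_mul_eq_one_right (quot_sq C c)
      rw [← hi (a * b), mul_inv_rev, hi, hi] }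

/-- The quotient module. -/
abbrev Cfg.V : Type u := Additive (C.Q ⧸ C.A.subgroupOf C.Q)

/-- The class of an element. -/
def Cfg.cls (x : C.Q) : C.V := Additive.ofMul (QuotientGroup.mk x)

lemma Cfg.cls_mul (x y : C.Q) : C.cls (x * y) = C.cls x + C.cls y := rfl

lemma Cfg.cls_surjective : Function.Surjective C.cls := fun v => by
  obtain ⟨x, hx⟩ := QuotientGroup.mk_surjective v.toMul
  exact ⟨x, congrArg Additive.ofMul hx⟩

lemma Cfg.cls_eq_zero (x : C.Q) : C.cls x = 0 ↔ (x : Y) ∈ C.A :=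
  (QuotientGroup.eq_one_iff x).trans Subgroup.mem_subgroupOf

lemma Cfg.cls_eq {x y : C.Q} : C.cls x = C.cls y ↔ (x : Y)⁻¹ * y ∈ C.A :=
  QuotientGroup.eq.trans Subgroup.mem_subgroupOf

lemma Cfg.cls_inv (x : C.Q) : C.cls x⁻¹ = - C.cls x := rfl

lemma Cfg.V2 (v : C.V) : v + v = 0 := quot_sq C v.toMul

/-- Conjugation on the quotient. -/
def Cfg.conjV (g : Y) : AddMonoid.End C.V :=
  MonoidHom.toAdditive (QuotientGroup.map (C.A.subgroupOf C.Q) (C.A.subgroupOf C.Q)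
    (MulAut.conjNormal g : MulAut C.Q).toMonoidHom fun x hx => by
      show ((MulAut.conjNormal g x : C.Q) : Y) ∈ C.A
      rw [MulAut.conjNormal_apply]
      exact C.An.conj_mem _ hx g)

lemma Cfg.conjV_cls (g : Y) (x : C.Q) : C.conjV g (C.cls x) = C.cls (MulAut.conjNormal g x) := rfl

/-- Conjugation on the quotient, as a homomorphism. -/
def Cfg.conjVHom : Y →* AddMonoid.End C.V where
  toFun := C.conjV
  map_one' := AddMonoidHom.ext fun v => by
    obtain ⟨x, rfl⟩ := C.cls_surjective v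
    show C.conjV 1 (C.cls x) = C.cls x
    rw [C.conjV_cls, map_one]; rfl
  map_mul' g k := AddMonoidHom.ext fun v => by
    obtain ⟨x, rfl⟩ := C.cls_surjective v
    show C.conjV (g * k) (C.cls x) = C.conjV g (C.conjV k (C.cls x))
    rw [C.conjV_cls, C.conjV_cls, C.conjV_cls, map_mul]; rfl

lemma Cfg.conjV_ker : C.Q ≤ C.conjVHom.ker := fun g hg => MonoidHom.mem_ker.2 (AddMonoidHom.ext fun v => by
  obtain ⟨x, rfl⟩ := C.cls_surjective v
  show C.conjV g (C.cls x) = C.cls x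
  rw [C.conjV_cls, show MulAut.conjNormal g x = (⟨g, hg⟩ : C.Q) * x * (⟨g, hg⟩ : C.Q)⁻¹ from
    Subtype.ext (MulAut.conjNormal_apply g x), C.cls_mul, C.cls_mul, C.cls_inv]
  abel)

/-- The action of the quotient group on the quotient module. -/
noncomputable def Cfg.ρ : Rep L C.V :=
  (QuotientGroup.lift C.Q C.conjVHom C.conjV_ker).comp
    (QuotientGroup.quotientKerEquivOfSurjective C.π C.hπ).symm.toMonoidHom

lemma Cfg.ker_symm (g : Y) :
    (QuotientGroup.quotientKerEquivOfSurjective C.π C.hπ).symm (C.π g) = QuotientGroup.mk g := by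
  rw [MulEquiv.symm_apply_eq]; rfl

lemma Cfg.ρ_apply (g : Y) (x : C.Q) : C.ρ (C.π g) (C.cls x) = C.cls (MulAut.conjNormal g x) := by
  show QuotientGroup.lift C.Q C.conjVHom C.conjV_ker
    ((QuotientGroup.quotientKerEquivOfSurjective C.π C.hπ).symm (C.π g)) (C.cls x) = _
  rw [C.ker_symm]; rfl

/-- Conjugation on the subgroup, as a homomorphism. -/
def Cfg.actHom : Y →* AddMonoid.End (Additive C.A) where
  toFun g := act C.A g
  map_one' := AddMonoidHom.ext fun v => act_of_mem C.A C.A.one_mem v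
  map_mul' g k := AddMonoidHom.ext fun v => act_mul C.A g k v

lemma Cfg.act_ker : C.Q ≤ C.actHom.ker := fun g hg => MonoidHom.mem_ker.2 (AddMonoidHom.ext fun v => by
  show act C.A g v = v
  apply ext_val C.A
  rw [act_val, ← C.Ac _ v.toMul.2 g hg, mul_inv_cancel_right])

/-- The action of the quotient group on the subgroup. -/
noncomputable def Cfg.σ : Rep L (Additive C.A) :=
  (QuotientGroup.lift C.Q C.actHom C.act_ker).comp
    (QuotientGroup.quotientKerEquivOfSurjective C.π C.hπ).symm.toMonoidHom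

lemma Cfg.σ_apply (g : Y) (a : Additive C.A) : C.σ (C.π g) a = act C.A g a := by
  show QuotientGroup.lift C.Q C.actHom C.act_ker
    ((QuotientGroup.quotientKerEquivOfSurjective C.π C.hπ).symm (C.π g)) a = _
  rw [C.ker_symm]; rfl

lemma Cfg.Aexp (a : Additive C.A) : a + a = 0 := Additive.toMul.injective (Subtype.ext (C.A2 _ a.toMul.2))

lemma Cfg.ρ_nt : ∃ g v, C.ρ g v ≠ v := by
  obtain ⟨g, q, hq, hn⟩ := C.nt
  refine ⟨C.π g, C.cls ⟨q, hq⟩, fun e => hn ?_⟩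
  rw [C.ρ_apply] at e
  have := C.cls_eq.1 e.symm
  rwa [MulAut.conjNormal_apply] at this

lemma Cfg.sq_well {x y : C.Q} (h : (x : Y)⁻¹ * y ∈ C.A) : (x : Y) * x = y * y := by
  set a := (x : Y)⁻¹ * y with ha
  have hy : (y : Y) = x * a := by rw [ha, mul_inv_cancel_left]
  rw [hy, show (x : Y) * a * (x * a) = x * (a * x) * a by group, C.Ac a h x x.2,
    show (x : Y) * (x * a) * a = x * x * (a * a) by group, C.A2 a h, mul_one]

/-- Squaring. -/
def Cfg.q (v : C.V) : Additive C.A :=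
  Quotient.liftOn' v.toMul (fun x : C.Q => Additive.ofMul ⟨(x : Y) * x, C.sq x x.2⟩)
    fun x y h => congrArg Additive.ofMul (Subtype.ext (C.sq_well (by
      rw [QuotientGroup.leftRel_apply] at h; exact Subgroup.mem_subgroupOf.1 h)))

lemma Cfg.q_cls (x : C.Q) : ((C.q (C.cls x)).toMul : Y) = x * x := rfl

lemma Cfg.q_cls_eq_zero (x : C.Q) : C.q (C.cls x) = 0 ↔ (x : Y) * x = 1 := by
  constructor
  · intro h; rw [← C.q_cls, h]; rfl
  · intro h; apply ext_val C.A; rw [C.q_cls, h]; rfl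

lemma Cfg.q_zero : C.q 0 = 0 := (C.q_cls_eq_zero 1).2 (one_mul _)

lemma Cfg.q_equiv (l : L) (v : C.V) : C.q (C.ρ l v) = C.σ l (C.q v) := by
  obtain ⟨g, rfl⟩ := C.hπ l
  obtain ⟨x, rfl⟩ := C.cls_surjective v
  rw [C.ρ_apply, C.σ_apply]
  apply ext_val C.A
  rw [act_val, C.q_cls, C.q_cls, MulAut.conjNormal_apply]
  group

/-- The polar form of squaring. -/
def Cfg.B (x y : C.V) : Additive C.A := C.q (x + y) + C.q x + C.q y

lemma Cfg.comm_mem (x y : C.Q) : ⁅(x : Y), (y : Y)⁆ ∈ C.A := by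
  have h : C.cls ⁅x, y⁆ = 0 := by
    rw [commutatorElement_def, C.cls_mul, C.cls_mul, C.cls_mul, C.cls_inv, C.cls_inv]; abel
  exact (C.cls_eq_zero _).1 h

lemma Cfg.B_cls (x y : C.Q) : ((C.B (C.cls x) (C.cls y)).toMul : Y) = ⁅(x : Y), (y : Y)⁆ := by
  rw [Cfg.B, ← C.cls_mul]
  show ((C.q (C.cls (x * y))).toMul : Y) * (C.q (C.cls x)).toMul * (C.q (C.cls y)).toMul = _
  simp only [C.q_cls, Subgroup.coe_mul]
  have hxy := C.comm_mem x y
  have hA : ∀ a ∈ C.A, a⁻¹ = a := fun a ha => inv_eq_of_mul_eq_one_right (C.A2 a ha)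
  calc (x : Y) * y * (x * y) * (x * x) * (y * y) = (x : Y) * y * x * y * ((x : Y) * x)⁻¹ * (y * y) := by
        rw [hA _ (C.sq x x.2)]; group
    _ = (x : Y) * y * x * (y * ((x : Y) * x)⁻¹) * (y * y) := by group
    _ = (x : Y) * y * x * (((x : Y) * x)⁻¹ * y) * (y * y) := by
        rw [hA _ (C.sq x x.2), C.Ac _ (C.sq x x.2) y y.2]
    _ = (x : Y) * y * (x : Y)⁻¹ * (y * (y * y)) := by group
    _ = (x : Y) * y * (x : Y)⁻¹ * (y * ((y : Y) * y)⁻¹) := by rw [hA _ (C.sq y y.2)]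
    _ = ⁅(x : Y), (y : Y)⁆ := by rw [commutatorElement_def]; group

lemma Cfg.B_comm (x y : C.V) : C.B x y = C.B y x := by
  rw [Cfg.B, Cfg.B, add_comm x y]; abel

lemma Cfg.B_add (x y z : C.V) : C.B (x + y) z = C.B x z + C.B y z := by
  obtain ⟨a, rfl⟩ := C.cls_surjective x
  obtain ⟨b, rfl⟩ := C.cls_surjective y
  obtain ⟨c, rfl⟩ := C.cls_surjective z
  apply ext_val C.A
  rw [← C.cls_mul, toMul_add, Subgroup.coe_mul, C.B_cls, C.B_cls, C.B_cls, Subgroup.coe_mul]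
  have hm := C.comm_mem b c
  calc ⁅(a : Y) * b, (c : Y)⁆ = (a : Y) * ⁅(b : Y), (c : Y)⁆ * (a : Y)⁻¹ * ⁅(a : Y), (c : Y)⁆ := by
        simp only [commutatorElement_def]; group
    _ = ⁅(b : Y), (c : Y)⁆ * ⁅(a : Y), (c : Y)⁆ := by rw [← C.Ac _ hm a a.2, mul_inv_cancel_right]
    _ = ⁅(a : Y), (c : Y)⁆ * ⁅(b : Y), (c : Y)⁆ := C.Ac _ hm _ (C.le (C.comm_mem a c))

lemma Cfg.B_add_right (x y z : C.V) : C.B x (y + z) = C.B x y + C.B x z := by
  rw [C.B_comm, C.B_add, C.B_comm y, C.B_comm z]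

lemma Cfg.B_self (x : C.V) : C.B x x = 0 := by
  rw [Cfg.B, C.V2, C.q_zero, zero_add, C.Aexp]

lemma Cfg.q_add (x y : C.V) : C.q (x + y) = C.q x + C.q y + C.B x y := by
  rw [Cfg.B, show C.q x + C.q y + (C.q (x + y) + C.q x + C.q y) =
    C.q (x + y) + (C.q x + C.q x) + (C.q y + C.q y) by abel, C.Aexp, C.Aexp, add_zero, add_zero]

lemma Cfg.q_cubic (x y z : C.V) :
    C.q (x + y + z) + C.q x + C.q y + C.q z = C.q (x + y) + C.q (x + z) + C.q (y + z) := by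
  rw [C.q_add (x + y) z, C.B_add, C.q_add x z, C.q_add y z]; abel

lemma Cfg.B_equiv (l : L) (x y : C.V) : C.B (C.ρ l x) (C.ρ l y) = C.σ l (C.B x y) := by
  simp only [Cfg.B, map_add, ← C.q_equiv]

lemma Cfg.commute_of_B (x y : C.Q) (h : C.B (C.cls x) (C.cls y) = 0) : (x : Y) * y = y * x := by
  rw [← commutatorElement_eq_one_iff_mul_comm, ← C.B_cls, h]; rfl

lemma Cfg.comm_of_B (h : ∀ x y, C.B x y = 0) : ∀ a ∈ C.Q, ∀ b ∈ C.Q, a * b = b * a :=
  fun a ha b hb => C.commute_of_B ⟨a, ha⟩ ⟨b, hb⟩ (h _ _)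

lemma Cfg.A_eq_bot (h : ∀ v, C.q v = 0) : C.A = ⊥ := by
  refine eq_bot_iff.2 (C.gen.trans ((Subgroup.closure_le _).2 ?_))
  rintro _ ⟨x, hx, rfl⟩
  exact Subgroup.mem_bot.2 ((C.q_cls_eq_zero ⟨x, hx⟩).1 (h _))

lemma Cfg.A_le_image (K : AddSubgroup (Additive C.A)) (h : ∀ v, C.q v ∈ K) : ∀ a, a ∈ K := by
  let K' : Subgroup Y :=
    { carrier := {y | ∃ a ∈ K, (a.toMul : Y) = y}
      one_mem' := ⟨0, K.zero_mem, rfl⟩
      mul_mem' := by
        rintro _ _ ⟨x, hx, rfl⟩ ⟨y, hy, rfl⟩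
        exact ⟨x + y, K.add_mem hx hy, rfl⟩
      inv_mem' := by
        rintro _ ⟨x, hx, rfl⟩
        exact ⟨-x, K.neg_mem hx, rfl⟩ }
  intro a
  have hle : C.A ≤ K' := C.gen.trans ((Subgroup.closure_le _).2 (by
    rintro _ ⟨x, hx, rfl⟩
    exact ⟨_, h (C.cls ⟨x, hx⟩), rfl⟩))
  obtain ⟨b, hb, e⟩ := hle a.toMul.2
  rwa [← ext_val C.A e]

/-- The preimage of an invariant subgroup of the quotient module. -/
def Cfg.pre (D : AddSubgroup C.V) : Subgroup Y where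
  carrier := {y | ∃ hy : y ∈ C.Q, C.cls ⟨y, hy⟩ ∈ D}
  one_mem' := ⟨C.Q.one_mem, D.zero_mem⟩
  mul_mem' := by
    rintro a b ⟨ha, da⟩ ⟨hb, db⟩
    exact ⟨C.Q.mul_mem ha hb, D.add_mem da db⟩
  inv_mem' := by
    rintro a ⟨ha, da⟩
    exact ⟨C.Q.inv_mem ha, D.neg_mem da⟩

lemma Cfg.mem_pre {D : AddSubgroup C.V} {y : Y} (hy : y ∈ C.Q) :
    y ∈ C.pre D ↔ C.cls ⟨y, hy⟩ ∈ D := ⟨fun ⟨_, h⟩ => h, fun h => ⟨hy, h⟩⟩

lemma Cfg.pre_le (D : AddSubgroup C.V) : C.pre D ≤ C.Q := fun _ h => h.1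

lemma Cfg.pre_normal {D : AddSubgroup C.V} (hD : ∀ g, ∀ v ∈ D, C.ρ g v ∈ D) : (C.pre D).Normal := by
  refine ⟨fun y hy g => ?_⟩
  obtain ⟨hy, dy⟩ := hy
  refine ⟨(inferInstance : C.Q.Normal).conj_mem y hy g, ?_⟩
  have := hD (C.π g) _ dy
  rw [C.ρ_apply] at this
  convert this using 2
  exact Subtype.ext (MulAut.conjNormal_apply g ⟨y, hy⟩).symm

lemma Cfg.pre_idx [Finite Y] {D : AddSubgroup C.V} (h : D.index = 2) :
    ∀ x, C.π x = 1 → ∀ y, C.π y = 1 → x ∉ C.pre D → y ∉ C.pre D → x * y ∈ C.pre D := by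
  intro x hx y hy nx ny
  have hx' : x ∈ C.Q := hx
  have hy' : y ∈ C.Q := hy
  rw [C.mem_pre hx'] at nx
  rw [C.mem_pre hy'] at ny
  rw [C.mem_pre (C.Q.mul_mem hx' hy'), show (⟨x * y, _⟩ : C.Q) = ⟨x, hx'⟩ * ⟨y, hy'⟩ from rfl,
    C.cls_mul, AddSubgroup.add_mem_iff_of_index_two h]
  exact iff_of_false nx ny

/-- The projection of a preimage. -/
def Cfg.pn (D : AddSubgroup C.V) [IsMulCommutative (C.pre D)] : Additive (C.pre D) →+ D where
  toFun x := ⟨C.cls ⟨(x.toMul : Y), C.pre_le D x.toMul.2⟩, (C.mem_pre _).1 x.toMul.2⟩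
  map_zero' := Subtype.ext ((C.cls_eq_zero _).2 C.A.one_mem)
  map_add' x y := rfl

lemma Cfg.pn_surjective (D : AddSubgroup C.V) [IsMulCommutative (C.pre D)] :
    Function.Surjective (C.pn D) := by
  rintro ⟨v, hv⟩
  obtain ⟨x, rfl⟩ := C.cls_surjective v
  exact ⟨el (C.pre D) (g := (x : Y)) ⟨x.2, hv⟩, rfl⟩

lemma Cfg.pn_act (D : AddSubgroup C.V) [IsMulCommutative (C.pre D)] [(C.pre D).Normal] (g : Y)
    (x : Additive (C.pre D)) :
    (C.pn D (act (C.pre D) g x) : C.V) = C.ρ (C.π g) (C.pn D x) := by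
  show C.cls _ = C.ρ (C.π g) (C.cls _)
  rw [C.ρ_apply]
  congr 1

lemma Cfg.card_pre [Finite Y] (D : AddSubgroup C.V) [IsMulCommutative (C.pre D)] [(C.pre D).Normal] :
    Nat.card (C.pre D) = Nat.card D * Nat.card C.A := by
  have h := (C.pn D).ker.card_mul_index
  rw [AddSubgroup.index_ker, AddMonoidHom.range_eq_top.2 (C.pn_surjective D), AddSubgroup.card_top,
    Nat.card_congr (Additive.toMul : Additive (C.pre D) ≃ _)] at h
  have hA : C.A ≤ C.pre D := fun a ha => ⟨C.le ha, by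
    rw [(C.cls_eq_zero ⟨a, C.le ha⟩).2 ha]; exact D.zero_mem⟩
  have hk : Nat.card (C.pn D).ker = Nat.card C.A :=
    Nat.card_congr
      { toFun := fun x => ⟨(x.1.toMul : Y), (C.cls_eq_zero _).1 (congrArg Subtype.val x.2)⟩
        invFun := fun a => ⟨el (C.pre D) (hA a.2), Subtype.ext ((C.cls_eq_zero ⟨a, C.le a.2⟩).2 a.2)⟩
        left_inv := fun x => Subtype.ext (ext_val _ rfl)
        right_inv := fun a => Subtype.ext rfl }
  rw [← h, hk, mul_comm]

end Cfsg.Agent.RadicalLThree
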