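import Cfsg.Agent.RadicalLThree.Layer
import Cfsg.Agent.RadicalLThree.Functions
import Cfsg.Agent.RadicalLThree.Fixed

/-!
# The quotient group fixes something in the first layer
-/

set_option autoImplicit false
set_option linter.all false

namespace Cfsg.Agent.RadicalLThree

universe u v w

open scoped commutatorElement

variable {L : Type v} [Group L] {Y : Type u} [Group Y] (C : Cfg L Y) [Finite Y]

lemma Cfg.card_V_le (h4 : SectionalPRankLE 2 4 Y) : Nat.card C.V ≤ 16 := by
  have h := h4 C.Q (C.A.subgroupOf C.Q) ⊤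
    ⟨⟨fun a b => Subtype.ext (mul_comm (a.1 : C.Q ⧸ C.A.subgroupOf C.Q) b.1)⟩⟩
    (fun a _ => by rw [pow_two]; exact quot_sq C a)
  rwa [Subgroup.card_top] at h

lemma Cfg.card_A_le (h4 : SectionalPRankLE 2 4 Y) : Nat.card (Additive C.A) ≤ 16 :=
  card_le_of_elementary (R := C.A) h4 C.A2

variable [Finite L] [IsSimpleGroup L]

/-- Squaring cannot be an embedding of the natural module when the kernel is abelian. -/
theorem Cfg.contra_Q (h4 : SectionalPRankLE 2 4 Y) (hB : ∀ x y, C.B x y = 0) {N : Type w}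
    [AddCommGroup N] {ρN : Rep L N} (d : Nat3 ρN) (P : C.V →+ N) (hP : Function.Surjective P)
    (hPe : ∀ l v, P (C.ρ l v) = ρN l (P v)) (hker : ∀ v, P v = 0 ↔ C.q v = 0) : False := by
  haveI : IsMulCommutative C.Q := ⟨⟨fun a b => Subtype.ext (C.comm_of_B hB a a.2 b b.2)⟩⟩
  let pn : Additive C.Q →+ N :=
    P.comp (AddMonoidHom.mk' (fun x : Additive C.Q => C.cls x.toMul) fun a b => rfl)
  refine contra d C.Q h4 C.hπ C.hQ (fun x hx y hy nx _ => absurd hx nx) pn ?_ ?_ ?_
    (fun h hh _ _ => hh)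
  · intro n
    obtain ⟨v, rfl⟩ := hP n
    obtain ⟨x, rfl⟩ := C.cls_surjective v
    exact ⟨Additive.ofMul x, rfl⟩
  · intro g x
    show P (C.cls _) = ρN (C.π g) (P (C.cls x.toMul))
    rw [← hPe, C.ρ_apply]; rfl
  · intro x
    show P (C.cls x.toMul) = 0 ↔ _
    rw [hker, C.q_cls_eq_zero]
    exact ⟨fun h => Additive.toMul.injective (Subtype.ext h),
      fun h => congrArg (fun y : Additive C.Q => (y.toMul : Y)) h⟩

/-- The module of order eight. -/
theorem Cfg.not_free_eight (hL : Nat.card L = 168) (h4 : SectionalPRankLE 2 4 Y) (hF : Free C.σ)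
    (h8 : Nat.card C.V = 8) : False := by
  obtain ⟨d⟩ := exists_nat3 hL C.ρ h8 C.V2 C.ρ_nt
  rcases linear_of_free hL d hF C.q C.q_zero C.q_equiv with h | ⟨hadd, hinj⟩
  · obtain ⟨g, a, hga⟩ := hF.nt
    have : a = 0 := Additive.toMul.injective (Subtype.ext (Subgroup.mem_bot.1 (C.A_eq_bot h ▸ a.toMul.2)))
    exact hga (by rw [this, map_zero])
  · refine C.contra_Q h4 (fun x y => ?_) d (AddMonoidHom.id C.V) Function.surjective_id (fun l v => rfl)
      (fun v => ?_)
    · rw [Cfg.B, hadd, add_assoc (C.q x + C.q y), C.Aexp]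
    · exact ⟨fun h => by rw [show v = 0 from h, C.q_zero], fun h => hinj (show C.q v = C.q 0 by rw [h, C.q_zero])⟩

/-- The module of order sixteen with an invariant subgroup of order eight. -/
theorem Cfg.not_free_hyp (hL : Nat.card L = 168) (h4 : SectionalPRankLE 2 4 Y) (hF : Free C.σ)
    (h16 : Nat.card C.V = 16) (H : Hyp C.ρ) : False := by
  classical
  obtain ⟨d⟩ := H.exists_nat3 hL C.ρ C.V2 h16 C.ρ_nt
  have hidx : H.D.index = 2 := by
    have := H.D.card_mul_index
    rw [H.card, h16] at this; omega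
  let ψ : H.D → Additive C.A := fun v => C.q v
  have hψ0 : ψ 0 = 0 := C.q_zero
  have hψe : ∀ l v, ψ (H.rep l v) = C.σ l (ψ v) := fun l v => C.q_equiv l v
  haveI : (C.pre H.D).Normal := C.pre_normal H.inv
  rcases linear_of_free hL d hF ψ hψ0 hψe with h | ⟨hadd, hinj⟩
  · -- the preimage would be elementary of order at least `64`
    have hsq : ∀ a ∈ C.pre H.D, a * a = 1 := fun a ha => by
      obtain ⟨hy, dy⟩ := ha
      exact (C.q_cls_eq_zero ⟨a, hy⟩).1 (h ⟨_, dy⟩)
    haveI : IsMulCommutative (C.pre H.D) := ⟨⟨fun a b => by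
      have hi : ∀ c : C.pre H.D, c⁻¹ = c := fun c =>
        inv_eq_of_mul_eq_one_right (Subtype.ext (hsq c c.2))
      rw [← hi (a * b), mul_inv_rev, hi, hi]⟩⟩
    have h16' := card_le_of_elementary (R := C.pre H.D) h4 hsq
    rw [C.card_pre, H.card] at h16'
    have h8 := card_cases hL C.σ C.Aexp hF.nt hF.le
    have : Nat.card (Additive C.A) = Nat.card C.A := rfl
    omega
  have hψne : ∃ v, ψ v ≠ 0 := by
    by_contra hall
    push Not at hall
    have e := d.e.injective.ne (a₁ := d.e.symm ![1, 0, 0]) (a₂ := 0) (fun e => by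
      rw [d.e.symm_apply_eq, map_zero] at e; exact absurd e (by decide))
    exact e (congrArg d.e (hinj ((hall _).trans hψ0.symm)))
  have hBD : ∀ x y : H.D, C.B (x : C.V) y = 0 := fun x y => by
    show C.q ((x + y : H.D) : C.V) + ψ x + ψ y = 0
    show ψ (x + y) + ψ x + ψ y = 0
    rw [hadd, add_assoc (ψ x + ψ y), C.Aexp]
  haveI : IsMulCommutative (C.pre H.D) := ⟨⟨fun a b => Subtype.ext
    (C.commute_of_B ⟨a, C.pre_le _ a.2⟩ ⟨b, C.pre_le _ b.2⟩
      (hBD ⟨_, (C.mem_pre _).1 a.2⟩ ⟨_, (C.mem_pre _).1 b.2⟩))⟩⟩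
  have hker : ∀ x, C.pn H.D x = 0 ↔ x + x = 0 := by
    intro x
    constructor
    · intro h
      have h1 : ψ (C.pn H.D x) = 0 := by rw [h, hψ0]
      exact ext_val _ ((C.q_cls_eq_zero _).1 h1)
    · intro h
      apply hinj
      rw [hψ0]
      exact (C.q_cls_eq_zero _).2 (congrArg (fun y : Additive (C.pre H.D) => (y.toMul : Y)) h)
  refine contra d (C.pre H.D) h4 C.hπ C.hQ (C.pre_idx hidx) (C.pn H.D) (C.pn_surjective _)
    (fun g x => Subtype.ext (C.pn_act _ g x)) hker ?_
  intro h hh hne ha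
  by_contra hout
  have hhQ : h * h ∈ C.Q := hh
  have hv : C.cls ⟨h * h, hhQ⟩ ∉ H.D := fun e => hout ((C.mem_pre hhQ).2 e)
  have hfix : C.ρ (C.π h) (C.cls ⟨h * h, hhQ⟩) = C.cls ⟨h * h, hhQ⟩ := by
    rw [C.ρ_apply]; congr 1; apply Subtype.ext
    rw [MulAut.conjNormal_apply]; group
  rcases H.outside hL C.ρ C.V2 h16 hv with ⟨c, hc, hcfix⟩ | ⟨-, hno⟩
  swap
  · exact hno (C.π h) (by rw [← map_mul]; exact hh) hne hfix
  have hqc : C.q c = 0 := hF.nofix _ fun g => by rw [← C.q_equiv, hcfix]
  have hdec : ∀ v, v ∉ H.D → v + c ∈ H.D := fun v hv =>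
    (AddSubgroup.add_mem_iff_of_index_two hidx).2 (iff_of_false hv hc)
  have hback : ∀ v : C.V, v = (v + c) + c := fun v => by rw [add_assoc, C.V2, add_zero]
  let χ : H.D → Additive C.A := fun v => C.B c v
  have hχ0 : χ 0 = 0 := by
    show C.q (c + 0) + C.q c + C.q 0 = 0
    rw [add_zero, C.q_zero, add_zero, C.Aexp]
  have hχe : ∀ l v, χ (H.rep l v) = C.σ l (χ v) := fun l v => by
    show C.B c (C.ρ l v) = _
    rw [← C.B_equiv, hcfix]
  rcases eq_of_free hL d hF ψ χ hψ0 hψe hψne hχ0 hχe with hz | hz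
  · -- the whole kernel is abelian
    have hz' : ∀ v ∈ H.D, C.B c v = 0 := fun v hv => hz ⟨v, hv⟩
    have hBD' : ∀ x ∈ H.D, ∀ y, C.B x y = 0 := by
      intro x hx y
      by_cases hy : y ∈ H.D
      · exact hBD ⟨x, hx⟩ ⟨y, hy⟩
      · rw [hback y, C.B_add_right, hBD ⟨x, hx⟩ ⟨_, hdec y hy⟩, C.B_comm x c, hz' x hx, add_zero]
    have hB : ∀ x y, C.B x y = 0 := by
      intro x y
      by_cases hx : x ∈ H.D
      · exact hBD' x hx y
      rw [hback x, C.B_add, hBD' _ (hdec x hx), zero_add]
      by_cases hy : y ∈ H.D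
      · exact hz' y hy
      · rw [hback y, C.B_add_right, hz' _ (hdec y hy), C.B_self, add_zero]
    let P0 : C.V → H.D := fun v => if hv : v ∈ H.D then ⟨v, hv⟩ else ⟨v + c, hdec v hv⟩
    have hP0 : ∀ v, (P0 v : C.V) = v ∨ (P0 v : C.V) = v + c := fun v => by
      by_cases hv : v ∈ H.D
      · exact .inl (by simp [P0, hv])
      · exact .inr (by simp [P0, hv])
    have huniq : ∀ (w : H.D) v, ((w : C.V) = v ∨ (w : C.V) = v + c) → P0 v = w := by
      intro w v hw
      by_cases hv : v ∈ H.D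
      · rcases hw with e | e
        · exact Subtype.ext (by simp [P0, hv, e])
        · exact absurd ((H.D.add_mem_cancel_left hv).1 (e ▸ w.2)) hc
      · rcases hw with e | e
        · exact absurd (e ▸ w.2) hv
        · exact Subtype.ext (by simp [P0, hv, e])
    let P : C.V →+ H.D := AddMonoidHom.mk' P0 fun a b => huniq _ _ (by
      rw [AddSubgroup.coe_add]
      rcases hP0 a with ea | ea <;> rcases hP0 b with eb | eb <;> rw [ea, eb]
      · exact .inl rfl
      · exact .inr (by abel)
      · exact .inr (by abel)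
      · exact .inl (by rw [add_add_add_comm, C.V2, add_zero]))
    refine C.contra_Q h4 hB d P (fun w => ⟨w, huniq w w (.inl rfl)⟩) ?_ ?_
    · intro l v
      refine huniq _ _ ?_
      show C.ρ l (P0 v) = _ ∨ C.ρ l (P0 v) = _
      rcases hP0 v with e | e <;> rw [e]
      · exact .inl rfl
      · exact .inr (by rw [map_add, hcfix])
    · intro v
      have hq : C.q v = ψ (P0 v) := by
        show _ = C.q (P0 v : C.V)
        rcases hP0 v with e | e <;> rw [e]
        rw [C.q_add, hqc, hB, add_zero, add_zero]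
      rw [hq]
      exact ⟨fun h => by rw [show P0 v = 0 from h, hψ0], fun h => hinj (h.trans hψ0.symm)⟩
  · -- an element outside inverts the preimage
    have hinv : ∀ a : Additive (C.pre H.D), act (C.pre H.D) (h * h) a = -a := by
      intro a
      let xa : C.Q := ⟨a.toMul, C.pre_le _ a.toMul.2⟩
      have hd : C.cls xa ∈ H.D := (C.mem_pre _).1 a.toMul.2
      have hB : C.B (C.cls ⟨h * h, hhQ⟩) (C.cls xa) = C.q (C.cls xa) := by
        rw [hback (C.cls ⟨h * h, hhQ⟩), C.B_add, hBD ⟨_, hdec _ hv⟩ ⟨_, hd⟩, zero_add]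
        exact hz ⟨_, hd⟩
      have e := congrArg (fun y : Additive C.A => (y.toMul : Y)) hB
      simp only [C.B_cls, C.q_cls] at e
      apply ext_val
      rw [act_val, toMul_neg, Subgroup.coe_inv]
      have e' : h * h * (a.toMul : Y) * (h * h)⁻¹ = (a.toMul : Y) * a.toMul * a.toMul := by
        rw [show h * h * (a.toMul : Y) * (h * h)⁻¹ = ⁅h * h, (a.toMul : Y)⁆ * a.toMul by
          simp [commutatorElement_def]]
        rw [e]
      rw [e']
      apply eq_inv_of_mul_eq_one_left
      rw [mul_assoc]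
      exact C.A2 _ (C.sq _ (C.pre_le _ a.toMul.2))
    set R := C.pre H.D with hR
    obtain ⟨a, haa⟩ := C.pn_surjective H.D (d.e.symm ![0, 1, 0])
    have hea : d.e (C.pn H.D a) = ![0, 1, 0] := by rw [haa, d.e.apply_symm_apply]
    have hcoord : ∀ x, d.e (C.pn H.D (act R h x)) = mu1.mulVec (d.e (C.pn H.D x)) := fun x => by
      rw [show C.pn H.D (act R h x) = H.rep (C.π h) (C.pn H.D x) from Subtype.ext (C.pn_act _ h x), ha]
    set y := act R h a - a with hy
    have hpy : C.pn H.D y = 0 := by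
      apply d.e.injective
      rw [hy, map_sub, map_sub, hcoord, hea, map_zero]
      decide
    have hy2 : y + y = 0 := (hker y).1 hpy
    have hyA : (y.toMul : Y) ∈ C.A :=
      (C.cls_eq_zero ⟨_, C.pre_le _ y.toMul.2⟩).1 (congrArg Subtype.val hpy)
    obtain ⟨w, hw⟩ : (⟨(y.toMul : Y), hyA⟩ : C.A) ∈ {b : C.A | ∃ w : H.D, ψ w = Additive.ofMul b} := by
      have hall := C.A_le_image (AddMonoidHom.mk' ψ hadd).range (fun v => by
        by_cases hv : v ∈ H.D
        · exact ⟨⟨v, hv⟩, rfl⟩
        · refine ⟨0, ?_⟩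
          show ψ 0 = C.q v
          rw [hψ0, hback v, C.q_add, hqc, add_zero, C.B_comm, show C.B c (v + c) = ψ ⟨_, hdec v hv⟩ from
            hz ⟨_, hdec v hv⟩]
          exact (C.Aexp _).symm) (Additive.ofMul ⟨(y.toMul : Y), hyA⟩)
      exact hall
    obtain ⟨z, hzw⟩ := C.pn_surjective H.D w
    have hyz : y = z + z := by
      apply ext_val
      rw [← hzw] at hw
      have := congrArg (fun b : Additive C.A => (b.toMul : Y)) hw
      exact this.symm
    have h2a : a + a = (z + act R h z) + (z + act R h z) := by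
      have e1 : act R h (act R h a) = -a := by rw [← act_mul, hinv]
      rw [show act R h a = y + a by rw [hy, sub_add_cancel], map_add,
        show act R h a = y + a by rw [hy, sub_add_cancel]] at e1
      have e3 : act R h y + act R h y = 0 := by rw [← map_add, hy2, map_zero]
      have e2 : a + a = -(act R h y + y) := by
        rw [eq_neg_iff_add_eq_zero, show a + a + (act R h y + y) = (act R h y + (y + a)) + a by abel, e1,
          neg_add_cancel]
      rw [e2, neg_add, neg_eq_of_add_eq_zero_left e3, neg_eq_of_add_eq_zero_left hy2, hyz, map_add]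
      abel
    have hw2 : (a - (z + act R h z)) + (a - (z + act R h z)) = 0 := by
      rw [show a - (z + act R h z) + (a - (z + act R h z)) =
        a + a - ((z + act R h z) + (z + act R h z)) by abel, h2a, sub_self]
    have h0 := congrArg d.e ((hker _).2 hw2)
    rw [map_sub, map_sub, map_add, map_add, hcoord, hea, map_zero] at h0
    generalize d.e (C.pn H.D z) = t at h0
    revert t
    decide

/-- The module of order sixteen without an invariant subgroup of order eight. -/
theorem Cfg.not_free_no_hyp (hL : Nat.card L = 168) (h4 : SectionalPRankLE 2 4 Y) (hF : Free C.σ)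
    (h16 : Nat.card C.V = 16) (hno : IsEmpty (Hyp C.ρ)) : False := by
  obtain ⟨z, hz, hfix⟩ := exists_fixed_of_no_hyp hL C.ρ C.V2 h16 C.ρ_nt hno
  obtain ⟨d⟩ := quot_nat C.ρ z hfix hL C.V2 h16 C.ρ_nt hz
  let p : C.V →+ C.V ⧸ AddSubgroup.zmultiples z := QuotientAddGroup.mk' _
  have hp : Function.Surjective p := QuotientAddGroup.mk'_surjective _
  have pz : p z = 0 := (QuotientAddGroup.eq_zero_iff z).2 (AddSubgroup.mem_zmultiples z)
  have pe : ∀ {x y}, p x = p y → y = x ∨ y = x + z := by
    intro x y e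
    rcases (mem_zmultiples_iff_of_two C.V2).1 (QuotientAddGroup.eq.1 e) with h | h
    · left; rw [← add_zero x, ← h, add_neg_cancel_left]
    · right; rw [← h, add_neg_cancel_left]
  have hqz : C.q z = 0 := hF.nofix _ fun g => by rw [← C.q_equiv, hfix]
  let χ : C.V ⧸ AddSubgroup.zmultiples z →+ Additive C.A :=
    QuotientAddGroup.lift _ (AddMonoidHom.mk' (C.B z) (C.B_add_right z))
      (AddSubgroup.zmultiples_le.2 (C.B_self z))
  have hχp : ∀ x, χ (p x) = C.B z x := fun x => rfl
  have hχe : ∀ l n, χ (quotRep C.ρ z hfix l n) = C.σ l (χ n) := by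
    intro l n
    obtain ⟨x, rfl⟩ := hp n
    show C.B z (C.ρ l x) = C.σ l (C.B z x)
    rw [← C.B_equiv, hfix]
  have hqadd : ∀ x, C.q (x + z) = C.q x + χ (p x) := fun x => by
    rw [C.q_add, hqz, add_zero, C.B_comm, hχp]
  by_cases hne : ∃ n, χ n ≠ 0
  · have hinj : Function.Injective χ := injective_of_free d hF (map_zero χ) hχe hne
    have hD8 : Nat.card χ.range = 8 := by
      rw [← Nat.card_congr (AddMonoidHom.ofInjective hinj).toEquiv, card_nat3 d]
    have hinv : ∀ g, ∀ a ∈ χ.range, C.σ g a ∈ χ.range := by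
      rintro g _ ⟨n, rfl⟩
      exact ⟨_, hχe g n⟩
    have htriv : ∀ g a, C.σ g a - a ∈ χ.range := by
      intro g a
      by_cases ha : a ∈ χ.range
      · exact χ.range.sub_mem (hinv g a ha) ha
      have hi : χ.range.index = 2 := by
        have h1 := χ.range.card_mul_index
        have h2 := hF.le
        rw [hD8] at h1
        have : χ.range.index ≠ 1 := fun e => ha (AddSubgroup.index_eq_one.1 e ▸ AddSubgroup.mem_top a)
        have : χ.range.index ≠ 0 := AddSubgroup.index_ne_zero_of_finite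
        omega
      rw [sub_eq_add_neg, AddSubgroup.add_mem_iff_of_index_two hi, neg_mem_iff]
      refine iff_of_false (fun hg => ha ?_) ha
      have := hinv g⁻¹ _ hg
      rwa [rep_inv] at this
    let mk : Additive C.A →+ Additive C.A ⧸ χ.range := QuotientAddGroup.mk' _
    have mk0 : ∀ a, mk a = 0 ↔ a ∈ χ.range := fun a => QuotientAddGroup.eq_zero_iff a
    let ψ : C.V ⧸ AddSubgroup.zmultiples z → Additive C.A ⧸ χ.range := fun n => mk (C.q n.out)
    have hψp : ∀ x, ψ (p x) = mk (C.q x) := by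
      intro x
      show mk (C.q (p x).out) = _
      rcases pe (x := x) (y := (p x).out) (QuotientAddGroup.out_eq' (p x)).symm with e | e <;> rw [e]
      rw [hqadd, map_add, (mk0 _).2 ⟨_, rfl⟩, add_zero]
    have hall : ∀ x, C.q x ∈ χ.range := by
      have h0 := eq_zero_of_trivial d
        (fun a => by
          obtain ⟨b, rfl⟩ := QuotientAddGroup.mk'_surjective χ.range a
          rw [← map_add, C.Aexp, map_zero])
        ψ (by rw [← map_zero p, hψp, C.q_zero, map_zero])
        (fun g n => by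
          obtain ⟨x, rfl⟩ := hp n
          show ψ (p (C.ρ g x)) = _
          rw [hψp, hψp, C.q_equiv, ← sub_eq_zero, ← map_sub, mk0]
          exact htriv g _)
        (fun a b c => by
          obtain ⟨x, rfl⟩ := hp a
          obtain ⟨y, rfl⟩ := hp b
          obtain ⟨t, rfl⟩ := hp c
          simp only [← map_add p, hψp]
          rw [← map_add, ← map_add, ← map_add, ← map_add, ← map_add, C.q_cubic])
      intro x
      rw [← mk0, ← hψp, h0]
    obtain ⟨n, hn⟩ : ∃ n : C.V ⧸ AddSubgroup.zmultiples z, n ≠ 0 :=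
      ⟨d.e.symm ![1, 0, 0], fun e => by
        rw [d.e.symm_apply_eq, map_zero] at e; exact absurd e (by decide)⟩
    obtain ⟨x, rfl⟩ := hp n
    obtain ⟨n0, hn0⟩ := hall x
    have step : ∀ g, C.ρ g x = x ∨ C.ρ g x = x + z →
        quotRep C.ρ z hfix g n0 = n0 ∨ quotRep C.ρ z hfix g n0 = n0 + p x := by
      rintro g (e | e)
      · left; apply hinj; rw [hχe, hn0, ← C.q_equiv, e]
      · right; apply hinj; rw [hχe, hn0, ← C.q_equiv, e, hqadd, ← hn0, map_add]
    have hcase := d.fixed_one hn (fun g hg => step g (pe hg.symm))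
    have hxz : x ≠ z := fun e => hn (by rw [e, pz])
    obtain ⟨g, hg⟩ := exists_flip C.ρ z hfix hL C.V2 h16 C.ρ_nt hz hno
      (fun e => hn (by rw [e, map_zero])) hxz
    have hgp : quotRep C.ρ z hfix g (p x) = p x := by
      show p (C.ρ g x) = p x
      rw [hg, map_add, pz, add_zero]
    have h1 : quotRep C.ρ z hfix g n0 = n0 + p x := by
      apply hinj; rw [hχe, hn0, ← C.q_equiv, hg, hqadd, ← hn0, map_add]
    have h2 : quotRep C.ρ z hfix g n0 = n0 := by
      rcases hcase with rfl | rfl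
      · exact map_zero _
      · exact hgp
    exact hn (left_eq_add.1 (h2.symm.trans h1))
  push Not at hne
  let ψ : C.V ⧸ AddSubgroup.zmultiples z → Additive C.A := fun n => C.q n.out
  have hψp : ∀ x, ψ (p x) = C.q x := by
    intro x
    show C.q (p x).out = _
    rcases pe (x := x) (y := (p x).out) (QuotientAddGroup.out_eq' (p x)).symm with e | e <;> rw [e]
    rw [hqadd, hne, add_zero]
  have hψ0 : ψ 0 = 0 := by rw [← map_zero p, hψp, C.q_zero]
  rcases linear_of_free hL d hF ψ hψ0 (fun g n => by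
      obtain ⟨x, rfl⟩ := hp n
      show ψ (p (C.ρ g x)) = _
      rw [hψp, hψp, C.q_equiv]) with h | ⟨hadd, hinj⟩
  · obtain ⟨g, a, hga⟩ := hF.nt
    have hbot := C.A_eq_bot fun v => by rw [← hψp]; exact h _
    have : a = 0 := Additive.toMul.injective (Subtype.ext (Subgroup.mem_bot.1 (hbot ▸ a.toMul.2)))
    exact hga (by rw [this, map_zero])
  · refine C.contra_Q h4 (fun x y => ?_) d p hp (fun l v => rfl) (fun v => ?_)
    · rw [Cfg.B, ← hψp, ← hψp, ← hψp, map_add, hadd, add_assoc (ψ (p x) + ψ (p y)), C.Aexp]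
    · rw [← hψp]
      exact ⟨fun h => by rw [h, hψ0], fun h => hinj (h.trans hψ0.symm)⟩

/-- The quotient group cannot act without fixed points on the layer. -/
theorem Cfg.not_free (hL : Nat.card L = 168) (h4 : SectionalPRankLE 2 4 Y) : ¬ Free C.σ := fun hF => by
  rcases card_cases hL C.ρ C.V2 C.ρ_nt (C.card_V_le h4) with h | h
  · exact C.not_free_eight hL h4 hF h
  · rcases isEmpty_or_nonempty (Hyp C.ρ) with he | ⟨⟨H⟩⟩
    · exact C.not_free_no_hyp hL h4 hF h he
    · exact C.not_free_hyp hL h4 hF h H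

end Cfsg.Agent.RadicalLThree
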