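import Cfsg.Prelude.Def_CaseTheorems
import Cfsg.Agent.RadicalLThree.Algebra

/-!
# Sections of order thirty-two from a four-group over an abelian normal subgroup
-/

set_option autoImplicit false
set_option linter.all false

namespace Cfsg.Agent.RadicalLThree

universe u

open scoped commutatorElement

/-- The commutative group structure. -/
instance (priority := 100) commGroupOfComm {G : Type u} [Group G] (R : Subgroup G)
    [IsMulCommutative R] : CommGroup R :=
  { (inferInstance : Group R) with mul_comm := mul_comm' }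

variable {G : Type u} [Group G]

lemma commute_of_closure {s : Set G} (h : ∀ a ∈ s, ∀ b ∈ s, a * b = b * a) :
    ∀ a ∈ Subgroup.closure s, ∀ b ∈ Subgroup.closure s, a * b = b * a := by
  intro a ha b hb
  haveI : IsMulCommutative (Subgroup.closure s) := Subgroup.isMulCommutative_closure h
  exact congrArg Subtype.val (mul_comm' (⟨a, ha⟩ : Subgroup.closure s) ⟨b, hb⟩)

lemma sq_of_closure {s : Set G} (hc : ∀ a ∈ s, ∀ b ∈ s, a * b = b * a) (h2 : ∀ a ∈ s, a * a = 1) :
    ∀ a ∈ Subgroup.closure s, a * a = 1 := by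
  intro a ha
  induction ha using Subgroup.closure_induction with
  | mem x hx => exact h2 x hx
  | one => exact one_mul 1
  | mul x y hx hy ex ey =>
    rw [show x * y * (x * y) = x * (y * x) * y by group, commute_of_closure hc y hy x hx,
      show x * (x * y) * y = (x * x) * (y * y) by group, ex, ey, mul_one]
  | inv x hx ex => rw [← mul_inv_rev, ex, inv_one]

variable [Finite G]

/-- A section of order at least thirty-two and exponent two. -/
theorem not_sectional (h4 : SectionalPRankLE 2 4 G) (R : Subgroup G) [R.Normal]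
    (hR : ∀ a ∈ R, ∀ b ∈ R, a * b = b * a) (N : Subgroup G) (hN : N ≤ R)
    (f : ZMod 2 × ZMod 2 × ZMod 2 → G) (hf : ∀ t, f t ∈ R)
    (hinj : ∀ t t', (f t)⁻¹ * f t' ∈ N → t = t') (hf2 : ∀ t, f t * f t ∈ N) (g1 g2 : G)
    (c1 : ∀ n ∈ N, g1 * n = n * g1) (c2 : ∀ n ∈ N, g2 * n = n * g2)
    (d1 : ∀ t, ⁅g1, f t⁆ ∈ N) (d2 : ∀ t, ⁅g2, f t⁆ ∈ N)
    (s1 : g1 * g1 ∈ N) (s2 : g2 * g2 ∈ N) (k12 : ⁅g2, g1⁆ ∈ N)
    (n1 : g1 ∉ R) (n2 : g2 ∉ R) (n3 : g1 * g2 ∉ R) : False := by
  classical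
  let s : Set G := (N : Set G) ∪ (Set.range f ∪ {g1, g2})
  let H := Subgroup.closure s
  have hHN : ∀ n ∈ N, ∀ a ∈ H, a * n = n * a := by
    intro n hn a ha
    have : H ≤ Subgroup.centralizer {n} := by
      refine (Subgroup.closure_le _).2 ?_
      intro b hb
      rw [SetLike.mem_coe, Subgroup.mem_centralizer_singleton_iff]
      rcases hb with hb | ⟨t, rfl⟩ | rfl | rfl
      · exact hR b (hN hb) n (hN hn)
      · exact hR _ (hf t) n (hN hn)
      · exact c1 n hn
      · exact c2 n hn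
    exact Subgroup.mem_centralizer_singleton_iff.1 (this ha)
  haveI hnorm : (N.subgroupOf H).Normal := ⟨fun n hn a => by
    rw [Subgroup.mem_subgroupOf] at hn ⊢
    simpa [hHN _ hn _ a.2] using hn⟩
  have hs : ∀ a ∈ s, a ∈ H := fun a ha => Subgroup.subset_closure ha
  let s' : Set H := {a | (a : G) ∈ s}
  have hs' : Subgroup.closure s' = ⊤ := by
    have := Subgroup.closure_closure_coe_preimage (k := s)
    exact this
  let m : H →* H ⧸ N.subgroupOf H := QuotientGroup.mk' _
  have hm : ∀ a : H, (a : G) ∈ N → m a = 1 := fun a ha => (QuotientGroup.eq_one_iff a).2 ha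
  have sq : ∀ a ∈ s, a * a ∈ N := by
    rintro a (ha | ⟨t, rfl⟩ | rfl | rfl)
    · exact N.mul_mem ha ha
    · exact hf2 t
    · exact s1
    · exact s2
  have inv : ∀ {a b : G}, ⁅a, b⁆ ∈ N → ⁅b, a⁆ ∈ N := fun {a b} h => by
    rw [← commutatorElement_inv]; exact N.inv_mem h
  have one : ∀ {a b : G}, a * b = b * a → ⁅a, b⁆ ∈ N := fun {a b} h => by
    rw [commutatorElement_eq_one_iff_mul_comm.2 h]; exact N.one_mem
  have cm : ∀ a ∈ s, ∀ b ∈ s, ⁅a, b⁆ ∈ N := by
    intro a ha b hb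
    rcases ha with ha | ha
    · exact one (hHN a ha b (hs b hb)).symm
    rcases hb with hb | hb
    · exact one (hHN b hb a (hs a (Or.inr ha)))
    rcases ha with ⟨t, rfl⟩ | rfl | rfl <;> rcases hb with ⟨t', rfl⟩ | rfl | rfl
    · exact one (hR _ (hf t) _ (hf t'))
    · exact inv (d1 t)
    · exact inv (d2 t)
    · exact d1 t'
    · exact one rfl
    · exact inv k12
    · exact d2 t'
    · exact k12
    · exact one rfl
  have gen : Subgroup.closure (m '' s') = ⊤ := by
    rw [← MonoidHom.map_closure, hs', Subgroup.map_top_of_surjective m (QuotientGroup.mk'_surjective _)]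
  have hc : ∀ a ∈ m '' s', ∀ b ∈ m '' s', a * b = b * a := by
    rintro _ ⟨a, ha, rfl⟩ _ ⟨b, hb, rfl⟩
    rw [← commutatorElement_eq_one_iff_mul_comm, ← map_commutatorElement]
    exact hm _ (cm _ ha _ hb)
  have h2 : ∀ a ∈ m '' s', a * a = 1 := by
    rintro _ ⟨a, ha, rfl⟩
    rw [← map_mul]
    exact hm _ (sq _ ha)
  have all2 : ∀ a : H ⧸ N.subgroupOf H, a * a = 1 := fun a => sq_of_closure hc h2 a (by rw [gen]; trivial)
  have allc : IsMulCommutative (⊤ : Subgroup (H ⧸ N.subgroupOf H)) := ⟨⟨fun a b => Subtype.ext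
    (commute_of_closure hc a.1 (by rw [gen]; trivial) b.1 (by rw [gen]; trivial))⟩⟩
  have hle := h4 H (N.subgroupOf H) ⊤ allc (fun a _ => by rw [pow_two]; exact all2 a)
  rw [Subgroup.card_top] at hle
  let mem : ZMod 2 × ZMod 2 × ZMod 2 → Fin 2 → Fin 2 → H := fun t i j =>
    ⟨f t, hs _ (Or.inr (Or.inl ⟨t, rfl⟩))⟩ * ⟨g1, hs _ (Or.inr (Or.inr (Or.inl rfl)))⟩ ^ (i : ℕ) *
      ⟨g2, hs _ (Or.inr (Or.inr (Or.inr rfl)))⟩ ^ (j : ℕ)
  let F : (ZMod 2 × ZMod 2 × ZMod 2) × Fin 2 × Fin 2 → H ⧸ N.subgroupOf H := fun p =>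
    m (mem p.1 p.2.1 p.2.2)
  have hF : Function.Injective F := by
    rintro ⟨t, i, j⟩ ⟨t', i', j'⟩ e
    have e' : ((mem t i j)⁻¹ * mem t' i' j') ∈ N.subgroupOf H := QuotientGroup.eq.1 e
    rw [Subgroup.mem_subgroupOf] at e'
    let π : G →* G ⧸ R := QuotientGroup.mk' R
    have p0 : ∀ a ∈ R, π a = 1 := fun a ha => (QuotientGroup.eq_one_iff a).2 ha
    have ep := p0 _ (hN e')
    simp only [mem, Subgroup.coe_mul, Subgroup.coe_inv, Subgroup.coe_pow, map_mul, map_inv, map_pow,
      p0 _ (hf _), one_mul] at ep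
    have a1 : π g1 * π g1 = 1 := by rw [← map_mul]; exact p0 _ (hN s1)
    have a2 : π g2 * π g2 = 1 := by rw [← map_mul]; exact p0 _ (hN s2)
    have b1 : π g1 ≠ 1 := fun h => n1 ((QuotientGroup.eq_one_iff g1).1 h)
    have b2 : π g2 ≠ 1 := fun h => n2 ((QuotientGroup.eq_one_iff g2).1 h)
    have b3 : π g1 * π g2 ≠ 1 := fun h => n3 ((QuotientGroup.eq_one_iff _).1 (by rw [← h, ← map_mul]; rfl))
    have b4 : π g1 ≠ π g2 := fun h => b3 (by rw [h]; exact a2)
    have ij : i = i' ∧ j = j' := by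
      have key := eq_of_inv_mul_eq_one ep
      generalize π g1 = x at key b1 b2 b3 b4 a1 a2
      generalize π g2 = y at key b1 b2 b3 b4 a1 a2
      have k1 : x * y ≠ x := fun h => b2 (mul_eq_left.1 h)
      have k2 : x * y ≠ y := fun h => b1 (mul_eq_right.1 h)
      fin_cases i <;> fin_cases j <;> fin_cases i' <;> fin_cases j' <;>
        first
        | exact ⟨rfl, rfl⟩
        | (simp only [pow_zero, pow_one, one_mul, mul_one] at key
           first
           | exact absurd key b1 | exact absurd key.symm b1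
           | exact absurd key b2 | exact absurd key.symm b2
           | exact absurd key b3 | exact absurd key.symm b3
           | exact absurd key b4 | exact absurd key.symm b4
           | exact absurd key k1 | exact absurd key.symm k1
           | exact absurd key k2 | exact absurd key.symm k2)
    obtain ⟨rfl, rfl⟩ := ij
    have hu : (f t)⁻¹ * f t' ∈ N := by
      set w : H := ⟨g1, hs _ (Or.inr (Or.inr (Or.inl rfl)))⟩ ^ (i : ℕ) *
        ⟨g2, hs _ (Or.inr (Or.inr (Or.inr rfl)))⟩ ^ (j : ℕ) with hw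
      have := hnorm.conj_mem _ (show ((mem t i j)⁻¹ * mem t' i j) ∈ N.subgroupOf H from e') w
      rw [Subgroup.mem_subgroupOf] at this
      convert this using 1
      simp only [mem, hw, Subgroup.coe_mul, Subgroup.coe_inv]
      group
    rw [hinj t t' hu]
  have := Nat.card_le_card_of_injective F hF
  rw [Nat.card_eq_fintype_card] at this
  simp at this
  omega

/-! ### The abelian normal subgroup as a module -/

/-- Conjugation on an abelian normal subgroup, written additively. -/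
def act (R : Subgroup G) [R.Normal] [IsMulCommutative R] (g : G) :
    Additive R →+ Additive R :=
  MonoidHom.toAdditive (MulAut.conjNormal g).toMonoidHom

variable (R : Subgroup G) [R.Normal] [IsMulCommutative R]

omit [Finite G] in
lemma act_val (g : G) (a : Additive R) :
    ((act R g a).toMul : G) = g * a.toMul * g⁻¹ := MulAut.conjNormal_apply g a.toMul

omit [Finite G] in
lemma act_mul (g g' : G) (a : Additive R) : act R (g * g') a = act R g (act R g' a) := by
  apply Additive.toMul.injective; apply Subtype.ext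
  simp only [act_val]; group

omit [Finite G] in
lemma act_of_mem {g : G} (hg : g ∈ R) (a : Additive R) : act R g a = a := by
  apply Additive.toMul.injective; apply Subtype.ext
  rw [act_val, show g * (a.toMul : G) = (a.toMul : G) * g from
    congrArg Subtype.val (mul_comm' (⟨g, hg⟩ : R) a.toMul), mul_inv_cancel_right]

/-- An element of the subgroup, additively. -/
def el {g : G} (hg : g ∈ R) : Additive R := Additive.ofMul ⟨g, hg⟩

omit [Finite G] in
lemma el_val {g : G} (hg : g ∈ R) : ((el R hg).toMul : G) = g := rfl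

omit [Finite G] in
lemma ext_val {a b : Additive R} (h : (a.toMul : G) = b.toMul) : a = b :=
  Additive.toMul.injective (Subtype.ext h)

omit [Finite G] in
lemma act_rot {h h2 h3 : G} (hx : h * h2 * h3 ∈ R) (h2h : h2 * h * h2⁻¹ * h⁻¹ ∈ R)
    (hh : h * h ∈ R) (h22 : h2 * h2 ∈ R) (a : Additive R) :
    act R h3 a = act R h (act R h2 a) := by
  have e := act_of_mem R hx
  have i1 : ∀ y, act R h (act R h y) = y := fun y => by rw [← act_mul, act_of_mem R hh]
  have i2 : ∀ y, act R h2 (act R h2 y) = y := fun y => by rw [← act_mul, act_of_mem R h22]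
  have c : ∀ y, act R h2 (act R h y) = act R h (act R h2 y) := fun y => by
    rw [← act_mul, ← act_mul, show h2 * h = (h2 * h * h2⁻¹ * h⁻¹) * (h * h2) by group, act_mul,
      act_of_mem R h2h]
  have e3 : act R h (act R h2 (act R h3 a)) = a := by rw [← act_mul, ← act_mul]; exact e a
  calc act R h3 a = act R h2 (act R h (act R h (act R h2 (act R h3 a)))) := by rw [i1, i2]
    _ = act R h2 (act R h a) := by rw [e3]
    _ = act R h (act R h2 a) := c a

/-- A lift of an involution together with its two rotations. -/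
structure Triple (h r : G) : Prop where
  r3 : r * r * r = 1
  hh : h * h ∈ R
  hx : h * (r * h * r⁻¹) * (r * (r * h * r⁻¹) * r⁻¹) ∈ R

variable {R} {h r : G}

omit [Finite G] in
lemma Triple.h22 (T : Triple R h r) : (r * h * r⁻¹) * (r * h * r⁻¹) ∈ R := by
  rw [show r * h * r⁻¹ * (r * h * r⁻¹) = r * (h * h) * r⁻¹ by group]
  exact (inferInstance : R.Normal).conj_mem _ T.hh r

omit [Finite G] in
lemma Triple.hk (T : Triple R h r) :
    (r * h * r⁻¹) * h * (r * h * r⁻¹)⁻¹ * h⁻¹ ∈ R := by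
  set h2 := r * h * r⁻¹ with hh2
  set h3 := r * h2 * r⁻¹ with hh3
  have h33 : h3 * h3 ∈ R := by
    rw [hh3, show r * h2 * r⁻¹ * (r * h2 * r⁻¹) = r * (h2 * h2) * r⁻¹ by group]
    exact (inferInstance : R.Normal).conj_mem _ T.h22 r
  let π : G →* G ⧸ R := QuotientGroup.mk' R
  have p0 : ∀ a ∈ R, π a = 1 := fun a ha => (QuotientGroup.eq_one_iff a).2 ha
  apply (QuotientGroup.eq_one_iff _).1
  show π (h2 * h * h2⁻¹ * h⁻¹) = 1
  have a1 : (π h)⁻¹ = π h := inv_eq_of_mul_eq_one_right (by rw [← map_mul]; exact p0 _ T.hh)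
  have a2 : (π h2)⁻¹ = π h2 := inv_eq_of_mul_eq_one_right (by rw [← map_mul]; exact p0 _ T.h22)
  have a3 : (π h3)⁻¹ = π h3 := inv_eq_of_mul_eq_one_right (by rw [← map_mul]; exact p0 _ h33)
  have e : π h * π h2 * π h3 = 1 := by rw [← map_mul, ← map_mul]; exact p0 _ T.hx
  have e3 : π h * π h2 = π h3 := by rw [eq_inv_of_mul_eq_one_left e, a3]
  have e4 : π h2 * π h = π h3 := by rw [← a3, ← e3, mul_inv_rev, a1, a2]
  rw [map_mul, map_mul, map_mul, map_inv, map_inv, a2, a1,
    show π h2 * π h * π h2 * π h = (π h2 * π h) * (π h2 * π h) by group, e4, ← map_mul]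
  exact p0 _ h33

omit [Finite G] in
lemma Triple.mul_right (T : Triple R h r) {a : G} (ha : a ∈ R) : Triple R (h * a) r where
  r3 := T.r3
  hh := by
    rw [show h * a * (h * a) = h * a * h⁻¹ * (h * h) * a by group]
    exact R.mul_mem (R.mul_mem ((inferInstance : R.Normal).conj_mem _ ha h) T.hh) ha
  hx := by
    apply (QuotientGroup.eq_one_iff _).1
    have e := (QuotientGroup.eq_one_iff _).2 T.hx
    simpa [(QuotientGroup.eq_one_iff a).2 ha] using e

omit [Finite G] in
lemma Triple.lifts (T : Triple R h r) (S : Ops (Additive R)) (e1 : ∀ a, S.u1 a = act R h a)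
    (e2 : ∀ a, S.u2 a = act R (r * h * r⁻¹) a) (er : ∀ a, S.r a = act R r a) :
    S.Lifts (el R T.hh) (el R T.hk) (el R T.hx) ∧ S.r (el R T.hh) = el R T.h22 := by
  have hrm : S.r (el R T.hh) = el R T.h22 := by
    rw [er]; apply ext_val; rw [act_val, el_val, el_val]; group
  set h2 := r * h * r⁻¹ with hh2
  set h3 := r * h2 * r⁻¹ with hh3
  have rot : r * h3 * r⁻¹ = h := by
    calc r * h3 * r⁻¹ = (r * r * r) * h * (r * r * r)⁻¹ := by rw [hh3, hh2]; group
      _ = h := by rw [T.r3]; group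
  refine ⟨⟨?_, ?_, ?_, ?_, ?_⟩, hrm⟩
  · rw [e1]; apply ext_val; rw [act_val, el_val]; group
  · rw [e2, e1]; apply ext_val
    simp only [toMul_add, Subgroup.coe_mul, act_val, el_val, hh2]; group
  · rw [hrm, e1, e2]; apply ext_val
    simp only [toMul_add, toMul_sub, toMul_neg, Subgroup.coe_mul, Subgroup.coe_inv, div_eq_mul_inv,
      act_val, el_val, hh2]
    group
  · rw [e1, er]; apply ext_val
    simp only [act_val, el_val]
    have : r * (h * h2 * h3) * r⁻¹ = h⁻¹ * (h * h2 * h3) * h := by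
      rw [show r * (h * h2 * h3) * r⁻¹ = (r * h * r⁻¹) * (r * h2 * r⁻¹) * (r * h3 * r⁻¹) by group, rot]
      simp only [hh3, hh2]; group
    have cm : h * h2 * h3 * (h * h) = h * h * (h * h2 * h3) :=
      congrArg Subtype.val (mul_comm' (⟨h * h2 * h3, T.hx⟩ : R) ⟨h * h, T.hh⟩)
    rw [this, show h⁻¹ * (h * h2 * h3) * h = h⁻¹ * ((h * h2 * h3) * (h * h)) * h⁻¹ by group, cm]
    simp only [hh3, hh2]; group
  · have h33 : h3 * h3 ∈ R := by
      rw [hh3, show r * h2 * r⁻¹ * (r * h2 * r⁻¹) = r * (h2 * h2) * r⁻¹ by group]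
      exact (inferInstance : R.Normal).conj_mem _ T.h22 r
    have hrr : S.r (el R T.h22) = el R h33 := by
      rw [er]; apply ext_val; rw [act_val, el_val, el_val]; simp only [hh3, hh2]; group
    have h3i : act R h3⁻¹ (el R T.hx) = act R h3 (el R T.hx) := by
      conv_rhs => rw [show h3 = h3⁻¹ * (h3 * h3) by group, act_mul, act_of_mem R h33]
    rw [hrm, hrr, e1, e1, e2, ← act_rot R T.hx T.hk T.hh T.h22, ← h3i]
    apply ext_val
    simp only [toMul_add, toMul_sub, Subgroup.coe_mul, Subgroup.coe_inv, div_eq_mul_inv, act_val,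
      el_val, inv_inv, hh3, hh2]
    group

/-- An abelian normal subgroup as in `Sys` contradicts sectional rank four. -/
theorem sys_contradiction (h4 : SectionalPRankLE 2 4 G) (T : Triple R h r)
    (S : Sys (Additive R)) (e1 : ∀ a, S.u1 a = act R h a)
    (e2 : ∀ a, S.u2 a = act R (r * h * r⁻¹) a) (er : ∀ a, S.r a = act R r a) : False := by
  classical
  have shift : ∀ (g : G) (T' : Triple R g r) (a : Additive R), (∀ y, S.u1 y = act R g y) →
      ∃ T'' : Triple R (g * a.toMul) r, el R T''.hh = S.u1 a + el R T'.hh + a := by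
    intro g T' a he
    refine ⟨T'.mul_right a.toMul.2, ?_⟩
    rw [he]; apply ext_val
    simp only [toMul_add, Subgroup.coe_mul, act_val, el_val]; group
  have aShift : ∀ (g : G) (a : Additive R) (y : Additive R), act R (g * a.toMul) y = act R g y :=
    fun g a y => by rw [act_mul, act_of_mem R a.toMul.2]
  have aShift2 : ∀ (g : G) (a : Additive R) (y : Additive R),
      act R (r * (g * a.toMul) * r⁻¹) y = act R (r * g * r⁻¹) y := fun g a y => by
    rw [act_mul, act_mul, aShift, ← act_mul, ← act_mul]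
  obtain ⟨⟨hm1, hm2⟩, -, -⟩ := S.toOps.core (T.lifts S.toOps e1 e2 er).1
  obtain ⟨a, ha⟩ := S.exists_into hm1 hm2
  obtain ⟨T1, hT1⟩ := shift h T a e1
  set g := h * (a.toMul : G) with hg
  have f1 : ∀ y, S.u1 y = act R g y := fun y => by rw [hg, aShift, e1]
  have f2 : ∀ y, S.u2 y = act R (r * g * r⁻¹) y := fun y => by rw [hg, aShift2, e2]
  rw [← hT1] at ha
  obtain ⟨b, T2, hT2⟩ : ∃ b : Additive R, ∃ T2 : Triple R (g * b.toMul) r, el R T2.hh ∈ S.C := by
    by_cases hC : ∀ o ∈ S.O, S.u1 o - o ∈ S.C ∧ S.u2 o - o ∈ S.C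
    · obtain ⟨T2, hT2⟩ := shift g T1 0 f1
      exact ⟨0, T2, by rw [hT2, map_zero, zero_add, add_zero];
                       exact S.fixed_of_triv hC (T1.lifts S.toOps f1 f2 er).1 ha⟩
    · obtain ⟨b, -, hb⟩ := S.exists_fix hC ha (T1.lifts S.toOps f1 f2 er).1.f1
      obtain ⟨T2, hT2⟩ := shift g T1 b f1
      exact ⟨b, T2, by rw [hT2]; exact hb⟩
  set g1 := g * (b.toMul : G) with hg1
  have p1 : ∀ y, S.u1 y = act R g1 y := fun y => by rw [hg1, aShift, f1]
  have p2 : ∀ y, S.u2 y = act R (r * g1 * r⁻¹) y := fun y => by rw [hg1, aShift2, f2]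
  set g2 := r * g1 * r⁻¹ with hg2
  obtain ⟨L, hrm⟩ := T2.lifts S.toOps p1 p2 er
  have hkC := S.k_mem_C L hT2
  obtain ⟨f, -, hfD, hfinj⟩ := S.exists_eight
  let N : Subgroup G :=
    { carrier := {n | ∃ c ∈ S.C, (c.toMul : G) = n}
      one_mem' := ⟨0, S.C.zero_mem, rfl⟩
      mul_mem' := by
        rintro _ _ ⟨c, hc, rfl⟩ ⟨d, hd, rfl⟩
        exact ⟨c + d, S.C.add_mem hc hd, rfl⟩
      inv_mem' := by
        rintro _ ⟨c, hc, rfl⟩
        exact ⟨-c, S.C.neg_mem hc, rfl⟩ }
  have memN : ∀ {c : Additive R}, c ∈ S.C → (c.toMul : G) ∈ N := fun {c} hc => ⟨c, hc, rfl⟩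
  have dN : ∀ (q : G) (c : Additive R), act R q c - c ∈ S.C → ⁅q, (c.toMul : G)⁆ ∈ N := by
    intro q c hc
    have := memN hc
    rw [toMul_sub, div_eq_mul_inv, Subgroup.coe_mul, Subgroup.coe_inv, act_val] at this
    exact this
  have cN : ∀ (q : G) (c : Additive R), act R q c = c → q * c.toMul = c.toMul * q := by
    intro q c hc
    have := congrArg (fun y : Additive R => (y.toMul : G)) hc
    simp only [act_val] at this
    exact mul_inv_eq_iff_eq_mul.1 this
  have nonR : ∀ q, q ∈ R → ∀ y, act R q y = y := fun q hq y => act_of_mem R hq y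
  obtain ⟨z, hz1, hz2⟩ := S.surj 1 0
  obtain ⟨z', hz1', hz2'⟩ := S.surj 0 1
  refine not_sectional h4 R (fun x hx y hy => congrArg Subtype.val (mul_comm' (⟨x, hx⟩ : R) ⟨y, hy⟩))
    N (by rintro _ ⟨c, -, rfl⟩; exact c.toMul.2) (fun t => ((f t).toMul : G)) (fun t => (f t).toMul.2)
    ?_ ?_ g1 g2 ?_ ?_ (fun t => dN g1 _ (p1 (f t) ▸ (hfD t).1)) (fun t => dN g2 _ (p2 (f t) ▸ (hfD t).2))
    (memN hT2) ?_ (memN hkC) ?_ ?_ ?_
  · intro t t' ⟨c, hc, e⟩
    refine (hfinj t' t ?_).symm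
    have e' : f t' - f t = c := by
      apply ext_val
      rw [e, toMul_sub, div_eq_mul_inv, mul_comm' (f t').toMul (f t).toMul⁻¹]; rfl
    rw [e']; exact hc
  · intro t
    have := S.double_mem_C (z := f t)
      ((S.mem1 _).1 (hfD t).1.1) ((S.mem2 _).1 (hfD t).2.1)
    exact memN this
  · rintro _ ⟨c, hc, rfl⟩; exact cN g1 c ((p1 c).symm.trans hc.2.1)
  · rintro _ ⟨c, hc, rfl⟩; exact cN g2 c ((p2 c).symm.trans hc.2.2)
  · have := memN (S.r_C hT2)
    rw [hrm] at this; exact this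
  · intro hq
    have := (S.mem1 z).1 (by rw [p1, nonR _ hq, sub_self]; exact S.O.zero_mem)
    rw [hz1] at this; exact one_ne_zero this
  · intro hq
    have := (S.mem2 z').1 (by rw [p2, nonR _ hq, sub_self]; exact S.O.zero_mem)
    rw [hz2'] at this; exact one_ne_zero this
  · intro hq
    have e : S.u2 z = S.u1 z := by
      have := nonR _ hq z
      rw [act_mul, ← p1, ← p2] at this
      have h' := congrArg S.u1 this
      rwa [S.inv1] at h'
    have := (S.mem2 z).2 hz2
    rw [e] at this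
    rw [(S.mem1 z).1 this] at hz1
    exact zero_ne_one hz1

/-- The variant with a cyclic kernel of order four. -/
theorem ops_contradiction (h4 : SectionalPRankLE 2 4 G) (T : Triple R h r)
    (S : Ops (Additive R)) (e1 : ∀ a, S.u1 a = act R h a)
    (e2 : ∀ a, S.u2 a = act R (r * h * r⁻¹) a) (er : ∀ a, S.r a = act R r a)
    (hfix : ∀ y, S.φ1 y = 0 → S.φ2 y = 0 → S.u1 y = y ∧ S.u2 y = y)
    (hr : ∀ y, S.φ1 y = 0 → S.φ2 y = 0 → S.r (y + y) = y + y)
    (hd : ∀ y, S.u1 (y + y) = y + y ∧ S.u2 (y + y) = y + y)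
    (hq : ∀ y : Additive R, y + y + (y + y) = 0)
    (hc : ∃ c, S.φ1 c = 0 ∧ S.φ2 c = 0 ∧ c + c ≠ 0) : False := by
  classical
  obtain ⟨c, hc1, hc2, hc⟩ := hc
  obtain ⟨L, hrm⟩ := T.lifts S e1 e2 er
  obtain ⟨hm, hk, -⟩ := S.core L
  obtain ⟨hm0, hk0, hrm0⟩ := S.fixed_kernel hfix hr (fun y _ _ => hq y) L
  have hrm1 : S.φ1 (S.r (el R T.hh)) = 0 ∧ S.φ2 (S.r (el R T.hh)) = 0 := by
    rw [S.phir1, S.phir2, hm.1, hm.2]; simp
  let C : AddSubgroup (Additive R) :=
    { carrier := {y | S.φ1 y = 0 ∧ S.φ2 y = 0 ∧ y + y = 0}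
      zero_mem' := ⟨map_zero _, map_zero _, add_zero _⟩
      add_mem' := by
        rintro a b ⟨a1, a2, a3⟩ ⟨b1, b2, b3⟩
        exact ⟨by simp [a1, b1], by simp [a2, b2], by rw [add_add_add_comm, a3, b3, add_zero]⟩
      neg_mem' := by
        rintro a ⟨a1, a2, a3⟩
        exact ⟨by simp [a1], by simp [a2], by rw [← neg_add, a3, neg_zero]⟩ }
  have hD1 : ∀ y, S.u1 y - y ∈ C := fun y => ⟨(S.d1_mem y).1, (S.d1_mem y).2, by
    rw [show S.u1 y - y + (S.u1 y - y) = S.u1 y + S.u1 y - (y + y) by abel, ← map_add, (hd y).1,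
      sub_self]⟩
  have hD2 : ∀ y, S.u2 y - y ∈ C := fun y => ⟨(S.d2_mem y).1, (S.d2_mem y).2, by
    rw [show S.u2 y - y + (S.u2 y - y) = S.u2 y + S.u2 y - (y + y) by abel, ← map_add, (hd y).2,
      sub_self]⟩
  let N : Subgroup G :=
    { carrier := {n | ∃ y ∈ C, (y.toMul : G) = n}
      one_mem' := ⟨0, C.zero_mem, rfl⟩
      mul_mem' := by
        rintro _ _ ⟨y, hy, rfl⟩ ⟨d, hd, rfl⟩
        exact ⟨y + d, C.add_mem hy hd, rfl⟩
      inv_mem' := by
        rintro _ ⟨y, hy, rfl⟩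
        exact ⟨-y, C.neg_mem hy, rfl⟩ }
  have memN : ∀ {y : Additive R}, y ∈ C → (y.toMul : G) ∈ N := fun {y} hy => ⟨y, hy, rfl⟩
  have dN : ∀ (q : G) (y : Additive R), act R q y - y ∈ C → ⁅q, (y.toMul : G)⁆ ∈ N := by
    intro q y hy
    have := memN hy
    rw [toMul_sub, div_eq_mul_inv, Subgroup.coe_mul, Subgroup.coe_inv, act_val] at this
    exact this
  have cN : ∀ (q : G) (y : Additive R), act R q y = y → q * y.toMul = y.toMul * q := by
    intro q y hy
    have := congrArg (fun y : Additive R => (y.toMul : G)) hy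
    simp only [act_val] at this
    exact mul_inv_eq_iff_eq_mul.1 this
  obtain ⟨a, ha1, ha2⟩ := S.surj 1 0
  obtain ⟨b, hb1, hb2⟩ := S.surj 0 1
  let f : ZMod 2 × ZMod 2 × ZMod 2 → Additive R := fun t =>
    t.1.val • c + t.2.1.val • a + t.2.2.val • b
  have hf1 : ∀ t, S.φ1 (f t) = t.2.1 ∧ S.φ2 (f t) = t.2.2 := by
    intro t; simp [f, hc1, hc2, ha1, ha2, hb1, hb2]
  have key : ∀ t t', f t' - f t ∈ C → t = t' := by
    rintro ⟨p, i, j⟩ ⟨p', i', j'⟩ ⟨e1, e2, e3⟩
    rw [map_sub, (hf1 _).1, (hf1 _).1, sub_eq_zero] at e1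
    rw [map_sub, (hf1 _).2, (hf1 _).2, sub_eq_zero] at e2
    dsimp only at e1 e2
    subst e1; subst e2
    rcases zmod_two_cases p with rfl | rfl <;> rcases zmod_two_cases p' with rfl | rfl
    · rfl
    · exact absurd (by simpa [f, ZMod.val_one] using e3) hc
    · exfalso; apply hc
      simp only [f, ZMod.val_one, one_smul, ZMod.val_zero, zero_smul, zero_add] at e3
      rw [← neg_eq_zero, ← e3]
      abel
    · rfl
  have nonR : ∀ q, q ∈ R → ∀ y, act R q y = y := fun q hq y => act_of_mem R hq y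
  refine not_sectional h4 R (fun x hx y hy => congrArg Subtype.val (mul_comm' (⟨x, hx⟩ : R) ⟨y, hy⟩))
    N (by rintro _ ⟨y, -, rfl⟩; exact y.toMul.2) (fun t => ((f t).toMul : G)) (fun t => (f t).toMul.2)
    ?_ ?_ h (r * h * r⁻¹) ?_ ?_ (fun t => dN h _ (e1 (f t) ▸ hD1 (f t)))
    (fun t => dN _ _ (e2 (f t) ▸ hD2 (f t))) (memN ⟨hm.1, hm.2, hm0⟩) ?_ (memN ⟨hk.1, hk.2, hk0⟩) ?_ ?_ ?_
  · intro t t' ⟨y, hy, e⟩
    refine key t t' ?_
    have e' : f t' - f t = y := by
      apply ext_val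
      rw [e, toMul_sub, div_eq_mul_inv, mul_comm' (f t').toMul (f t).toMul⁻¹]; rfl
    rw [e']; exact hy
  · intro t
    exact memN (show f t + f t ∈ C from
      ⟨by simp [CharTwo.add_self_eq_zero], by simp [CharTwo.add_self_eq_zero], hq (f t)⟩)
  · rintro _ ⟨y, hy, rfl⟩; exact cN h y ((e1 y).symm.trans (hfix y hy.1 hy.2.1).1)
  · rintro _ ⟨y, hy, rfl⟩; exact cN _ y ((e2 y).symm.trans (hfix y hy.1 hy.2.1).2)
  · have := memN (show S.r (el R T.hh) ∈ C from ⟨hrm1.1, hrm1.2, hrm0⟩)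
    rw [hrm] at this; exact this
  · intro hh
    have := (S.mem1 a).1 (by rw [e1, nonR _ hh, sub_self]; exact S.O.zero_mem)
    rw [ha1] at this; exact one_ne_zero this
  · intro hh
    have := (S.mem2 b).1 (by rw [e2, nonR _ hh, sub_self]; exact S.O.zero_mem)
    rw [hb2] at this; exact one_ne_zero this
  · intro hh
    have e : S.u2 a = S.u1 a := by
      have := nonR _ hh a
      rw [act_mul, ← e1, ← e2] at this
      have h' := congrArg S.u1 this
      rwa [S.inv1] at h'
    have := (S.mem2 a).2 ha2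
    rw [e] at this
    rw [(S.mem1 a).1 this] at ha1
    exact zero_ne_one ha1

end Cfsg.Agent.RadicalLThree
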